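/-
Character tools for faithful characters of degree `(p - 1) / 2` (namespace `Cfsg.Agent.HalfDegree`).

Main results: `mem_center_of_norm_eq`, `exists_central`, `exists_descend`, `eq_zero_of_small`,
`int_congr_one` (an integral valued character at a `q`-element), `exists_nat_sum`, `sum_sq_natCast`.
-/
import Cfsg.Agent.Lib.Codegree.Basic
import Cfsg.Agent.Lib.BSW.Values
import Cfsg.Agent.Lib.CharApp.Galois
import Cfsg.Agent.Lib.Char.Eigen
import Cfsg.Agent.Lib.Char.Inner

set_option autoImplicit false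
set_option linter.style.haveILetI false

open scoped ComplexConjugate

namespace Cfsg.Agent.HalfDegree

open Cfsg

variable {G : Type*} [Group G] [Finite G]

/-- An element at which a faithful irreducible character has full norm is central. -/
theorem mem_center_of_norm_eq (χ : IrrCharacter G) (hfaith : ∀ g : G, (χ : G → ℂ) g = (χ : G → ℂ) 1 → g = 1)
    {u : G} (hu : ‖(χ : G → ℂ) u‖ = (charDegree (χ : G → ℂ) : ℝ)) : u ∈ Subgroup.center G := by
  obtain ⟨k, ρ, -, hρ⟩ := χ.2
  have hdeg : (charDegree (χ : G → ℂ) : ℂ) = (Module.finrank ℂ (Fin k → ℂ) : ℂ) := by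
    rw [TwoClassChar.deg_eq χ.2 |>.symm, ← hρ, Representation.char_one]
  rw [Nat.cast_inj] at hdeg
  rw [hdeg, ← hρ] at hu
  obtain ⟨w, hw⟩ := (Char.norm_character_eq_iff ρ u).mp hu
  refine Subgroup.mem_center_iff.mpr fun g => ?_
  have h1 : g * u * g⁻¹ * u⁻¹ = 1 := by
    refine hfaith _ ?_
    rw [← hρ]
    refine congrArg (LinearMap.trace ℂ (Fin k → ℂ)) ?_
    have hc : ρ g * ρ u = ρ u * ρ g := by
      rw [hw, ← Module.End.one_eq_id, mul_smul_comm, smul_mul_assoc, mul_one, one_mul]
    rw [map_mul, map_mul, map_mul, hc, mul_assoc (ρ u), ← map_mul ρ g, mul_inv_cancel, map_one, mul_one,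
      ← map_mul, mul_inv_cancel, map_one]
  rw [mul_inv_eq_one, mul_inv_eq_iff_eq_mul] at h1
  exact h1

/-- The central character of an irreducible character. -/
theorem exists_central (χ : IrrCharacter G) :
    ∃ w : Subgroup.center G →* ℂ, (∀ (z : Subgroup.center G) (g : G), (χ : G → ℂ) ((z : G) * g) = w z * (χ : G → ℂ) g) ∧
      ∀ z, w z * conj (w z) = 1 := by
  obtain ⟨k, ρ, hirr, hρ⟩ := χ.2
  haveI := hirr
  haveI := CharApp.nontrivial_of_irr ρ
  have hinj : ∀ a b : ℂ, a • (1 : Module.End ℂ (Fin k → ℂ)) = b • 1 → a = b := fun a b h => by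
    obtain ⟨v, hv⟩ := exists_ne (0 : Fin k → ℂ)
    exact smul_left_injective ℂ hv (by simpa using DFunLike.congr_fun h v)
  choose w hw using fun z : Subgroup.center G => CharApp.exists_scalar_of_mem_center ρ z.2
  have hmul : ∀ a b, w (a * b) = w a * w b := fun a b => by
    refine hinj _ _ ?_
    rw [← hw, Subgroup.coe_mul, map_mul, hw, hw, smul_mul_smul_comm, one_mul]
  have hone : w 1 = 1 := by
    refine hinj _ _ ?_
    rw [← hw, OneMemClass.coe_one, map_one, one_smul]
  refine ⟨{ toFun := w, map_one' := hone, map_mul' := hmul }, fun z g => ?_, fun z => ?_⟩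
  · rw [← hρ]
    show LinearMap.trace ℂ _ (ρ ((z : G) * g)) = w z * LinearMap.trace ℂ _ (ρ g)
    rw [map_mul, hw, smul_mul_assoc, one_mul, map_smul, smul_eq_mul]
  · have hpow : w z ^ orderOf z = 1 := by
      have := map_pow ({ toFun := w, map_one' := hone, map_mul' := hmul } : Subgroup.center G →* ℂ) z (orderOf z)
      rw [pow_orderOf_eq_one, map_one] at this
      exact this.symm
    show w z * conj (w z) = 1
    rw [Complex.mul_conj', Complex.norm_eq_one_of_pow_eq_one hpow (orderOf_pos z).ne']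
    simp

/-- A character trivial on the kernel of a surjection descends. -/
theorem exists_descend {Q : Type*} [Group Q] (π : G →* Q) (hπ : Function.Surjective π) {F : G → ℂ}
    (hF : IsCharacter G F) (h : ∀ z : G, π z = 1 → F z = F 1) :
    ∃ F' : Q → ℂ, IsCharacter Q F' ∧ ∀ g, F' (π g) = F g := by
  obtain ⟨k, ρ, rfl⟩ := hF
  have hker : π.ker ≤ MonoidHom.ker ρ := fun z hz => by
    have := h z (MonoidHom.mem_ker.mp hz)
    rw [Representation.char_one] at this
    exact MonoidHom.mem_ker.mpr ((Char.character_eq_finrank_iff ρ z).mp this)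
  let E := QuotientGroup.quotientKerEquivOfSurjective π hπ
  let σ : Representation ℂ Q (Fin k → ℂ) := (QuotientGroup.lift π.ker ρ hker).comp E.symm.toMonoidHom
  refine ⟨σ.character, ⟨k, σ, rfl⟩, fun g => ?_⟩
  have hg : E.symm (π g) = (g : G ⧸ π.ker) := E.injective (by rw [MulEquiv.apply_symm_apply]; rfl)
  show LinearMap.trace ℂ _ (QuotientGroup.lift π.ker ρ hker (E.symm (π g))) = LinearMap.trace ℂ _ (ρ g)
  rw [hg]
  rfl

/-- If all conjugates of `f (g) (1 - f g)` are small then `f g` is zero or one. -/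
theorem eq_zero_of_small {f : G → ℂ} (hf : IsCharacter G f) (g : G)
    (hsmall : ∀ k : ℕ, k.Coprime (Nat.card G) → ‖f (g ^ k) * (1 - f (g ^ k))‖ < 1) : f g = 0 ∨ f g = 1 := by
  classical
  obtain ⟨P, hP⟩ := GaloisAvg.cycloValued_character hf g
  set N := Nat.card G with hN
  haveI : NeZero N := ⟨Nat.card_pos.ne'⟩
  have hz := GaloisAvg.zeta_isPrimitiveRoot (NeZero.ne N)
  have hval : ∀ k, f (g ^ k) * (1 - f (g ^ k)) = Polynomial.aeval (GaloisAvg.zeta N ^ k) (P * (1 - P)) := fun k => by
    rw [map_mul, map_sub, map_one, ← hP]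
  obtain ⟨z, hzmem, hz0⟩ : ∃ z ∈ primitiveRoots N ℂ, Polynomial.aeval z (P * (1 - P)) = 0 := by
    by_contra hcon
    push Not at hcon
    have h1 := GaloisAvg.one_le_norm_prod (P * (1 - P)) hcon
    have hmem : GaloisAvg.zeta N ∈ primitiveRoots N ℂ := (mem_primitiveRoots (NeZero.pos N)).mpr hz
    have hle : ∀ z ∈ primitiveRoots N ℂ, ‖Polynomial.aeval z (P * (1 - P))‖ < 1 := by
      intro z hz'
      obtain ⟨k, -, hk, rfl⟩ := hz.isPrimitiveRoot_iff.mp ((mem_primitiveRoots (NeZero.pos N)).mp hz')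
      rw [← hval]
      exact hsmall k hk
    rw [← Finset.mul_prod_erase _ _ hmem] at h1
    have h2 : ∏ z ∈ (primitiveRoots N ℂ).erase (GaloisAvg.zeta N), ‖Polynomial.aeval z (P * (1 - P))‖ ≤ 1 :=
      Finset.prod_le_one (fun z _ => norm_nonneg _) fun z hz' => (hle z (Finset.mem_of_mem_erase hz')).le
    have h3 := mul_le_of_le_one_right (norm_nonneg (Polynomial.aeval (GaloisAvg.zeta N) (P * (1 - P)))) h2
    linarith [hle _ hmem]
  obtain ⟨k, -, hk, rfl⟩ := hz.isPrimitiveRoot_iff.mp ((mem_primitiveRoots (NeZero.pos N)).mp hzmem)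
  rw [← hval, mul_eq_zero, sub_eq_zero] at hz0
  rcases hz0 with h | h
  · exact Or.inl ((GaloisAvg.cycloValued_character hf).eq_zero_of_pow_eq_zero hk h)
  · right
    have h' : f (g ^ k) = ((1 : ℚ) : ℂ) := by rw [← h]; simp
    by_cases hN1 : Nat.card G = 1
    · haveI : Subsingleton G := (Nat.card_eq_one_iff_unique.mp hN1).1
      rw [Subsingleton.elim g (g ^ k)]
      exact h.symm
    obtain ⟨k', -, hk'⟩ := Nat.exists_mul_mod_eq_one_of_coprime hk (by have := Nat.card_pos (α := G); omega)
    have hcop : k'.Coprime (Nat.card G) := by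
      have h1 : ((k * k') % Nat.card G).gcd (Nat.card G) = 1 := by rw [hk']; exact Nat.gcd_one_left _
      rw [← Nat.gcd_rec, Nat.gcd_comm] at h1
      exact Nat.Coprime.coprime_dvd_left (Dvd.intro_left k rfl) h1
    have h2 := CharApp.apply_pow_of_rat (GaloisAvg.cycloValued_character hf) h' hcop
    rw [← pow_mul, ← pow_mod_natCard, hk', pow_one] at h2
    rw [h2]; simp

/-- An integral valued character is congruent to its degree at a `q`-element. -/
theorem int_congr_one {q : ℕ} (hq : q.Prime) {f : G → ℂ} (hf : IsCharacter G f) (hint : ∀ g, (∃ k, g ^ q ^ k = 1) → ∃ a : ℤ, f g = a)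
    {d : ℤ} (hd : f 1 = d) : ∀ (k : ℕ) (g : G), g ^ q ^ k = 1 → ∀ a : ℤ, f g = a → (q : ℤ) ∣ a - d := by
  intro k
  induction k with
  | zero =>
    intro g hg a ha
    rw [pow_zero, pow_one] at hg
    subst hg
    rw [hd, Int.cast_inj] at ha
    rw [ha, sub_self]
    exact dvd_zero _
  | succ k ih =>
    intro g hg a ha
    have hg' : (g ^ q) ^ q ^ k = 1 := by rw [← pow_mul, ← pow_succ']; exact hg
    obtain ⟨b, hb⟩ := hint (g ^ q) ⟨k, hg'⟩
    have h1 := BSW.int_frobenius_congr hq hf g ha hb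
    have h2 := ih _ hg' b hb
    have h3 : (q : ℤ) ∣ a ^ q - a := by
      haveI := Fact.mk hq
      rw [← ZMod.intCast_zmod_eq_zero_iff_dvd]
      push_cast
      rw [ZMod.pow_card, sub_self]
    have := (h1.sub h3).add h2
    rwa [show a ^ q - b - (a ^ q - a) + (b - d) = a - d by ring] at this

/-- A perfect group has only the trivial linear character. -/
theorem linear_trivial (hperf : commutator G = ⊤) (χ : IrrCharacter G) (hχ : charDegree (χ : G → ℂ) = 1) :
    χ = ⟨1, Char.isIrrCharacter_one⟩ := by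
  obtain ⟨l, hl⟩ := Char.exists_hom_of_degree_one (Char.IsIrrCharacter.isCharacter χ.2)
    (by rw [TwoClassChar.deg_eq χ.2, hχ, Nat.cast_one])
  refine Subtype.ext (funext fun g => ?_)
  have h3 := congrArg Units.val (show l.toHomUnits g = 1 from
    MonoidHom.mem_ker.mp (Abelianization.commutator_subset_ker l.toHomUnits (hperf ▸ Subgroup.mem_top g)))
  rw [MonoidHom.coe_toHomUnits] at h3
  show (χ : G → ℂ) g = 1
  rw [← hl]
  exact h3

/-- The sum of a character over a finite group is the group order times a natural number. -/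
theorem exists_nat_sum {H : Type*} [Group H] [Fintype H] {θ : H → ℂ} (hθ : IsCharacter H θ) :
    ∃ n : ℕ, ∑ u, θ u = (Nat.card H : ℂ) * n := by
  obtain ⟨n, hn⟩ := Char.IsCharacter.classInner_nat hθ (Char.IsIrrCharacter.isCharacter (Char.isIrrCharacter_one (G := H)))
  refine ⟨n, ?_⟩
  rw [← hn, classInner, ← mul_assoc, mul_inv_cancel₀ (Nat.cast_ne_zero.mpr Nat.card_pos.ne'), one_mul]
  simp

end Cfsg.Agent.HalfDegree
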