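/-
The principal block from the three products of two characters of degree `(p - 1) / 2`
(namespace `Cfsg.Agent.HalfDegree`).

Main results: `square_split` (constituents of the square), `mixed_split` (of the mixed product), `block_values`.
-/
import Cfsg.Agent.Lib.BrauerTuan.Products

set_option autoImplicit false
set_option linter.unusedSectionVars false
set_option linter.style.haveILetI false

open scoped ComplexConjugate

namespace Cfsg.Agent.HalfDegree

open Cfsg Cfsg.Agent.Blocks Cfsg.Agent.CyclicDefect Cfsg.Agent.BrauerFewSylow Cfsg.Agent.BrauerTuan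

variable {Q : Type*} [Group Q] [Finite Q] {p : ℕ} [Fact p.Prime] {x : Q} {L : Subgroup Q} {e : ℕ}
variable (h : Core p x L e 2) {M : Ideal AlgInt} (d : Data h M)
  [Fintype (IrrCharacter Q)] [Fintype ((ZMod p)ˣ ⧸ U h.hS (oneK x L : K x L → ℂ))]
include h d

theorem p_eq : p = 2 * e + 1 := by
  have := h.hte
  have := h.hS.hp.one_le
  omega

omit [Fintype ((ZMod p)ˣ ⧸ U h.hS (oneK x L : K x L → ℂ))] in
theorem deg_eq_of_excess (χ : IrrCharacter Q) {E : ℤ} (hE : excess h χ = E) :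
    (charDegree (χ : Q → ℂ) : ℤ) = p * m0 h χ - E := by
  rw [excess] at hE
  omega

theorem square_terms (χ : IrrCharacter Q) (hχ : χ ≠ oneG Q) :
    excess h χ ≤ (e : ℤ) * m0 h χ ∧ (excess h χ = (e : ℤ) * m0 h χ →
      (χ ∈ Plus h d ∧ m0 h χ = 2 ∧ charDegree (χ : Q → ℂ) = p + 1) ∨
      (χ ∈ Set.range d.exc ∧ d.ε = -1 ∧ m0 h χ = 1)) := by
  have hpe := p_eq h d
  have he := e_pos h
  have hpos := deg_pos h χ
  have hnn : (0 : ℤ) ≤ (e : ℤ) * m0 h χ := by positivity
  rcases mem_cases h d χ with h1 | h1 | h1 | ⟨c, rfl⟩ | h1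
  · exact absurd h1 hχ
  · obtain ⟨hB, hr, -, hδ⟩ := (mem_Plus h d).mp h1
    have hex := excess_cst h d hB hr
    rw [hδ] at hex
    obtain ⟨hm, hD⟩ := plus_eq h d h1
    have := Nat.mul_le_mul_left e hm
    refine ⟨by rw [hex]; omega, fun heq => Or.inl ⟨h1, ?_⟩⟩
    rw [hex] at heq
    have hm2 : m0 h χ = 2 := by
      rcases Nat.lt_trichotomy (m0 h χ) 2 with h2 | h2 | h2
      · omega
      · exact h2
      · have := Nat.mul_le_mul_left e (show 3 ≤ m0 h χ from h2)
        omega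
    refine ⟨hm2, ?_⟩
    rw [hm2] at hD
    omega
  · obtain ⟨hB, hr, -, hδ⟩ := (mem_Minus h d).mp h1
    have hex := excess_cst h d hB hr
    rw [hδ] at hex
    refine ⟨by rw [hex]; omega, fun heq => ?_⟩
    rw [hex] at heq
    omega
  · have hex := excess_exc h d c
    rcases d.hε with hε | hε
    · rw [hε, one_mul] at hex
      refine ⟨by rw [hex]; omega, fun heq => ?_⟩
      rw [hex] at heq
      omega
    · rw [hε] at hex
      have hd := deg_eq_of_excess h d (d.exc c) hex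
      have hm : 1 ≤ m0 h (d.exc c) := by
        by_contra h0
        rw [show m0 h (d.exc c) = 0 by omega] at hd
        push_cast at hd
        omega
      have := Nat.mul_le_mul_left e hm
      refine ⟨by rw [hex]; omega, fun heq => Or.inr ⟨⟨c, rfl⟩, hε, ?_⟩⟩
      rw [hex] at heq
      rcases Nat.lt_or_ge (m0 h (d.exc c)) 2 with h2 | h2
      · omega
      · have := Nat.mul_le_mul_left e h2
        omega
  · have hex := excess_out h d h1
    have hd := deg_eq_of_excess h d χ hex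
    have hm : 1 ≤ m0 h χ := by
      by_contra h0
      rw [show m0 h χ = 0 by omega] at hd
      omega
    have := Nat.mul_le_mul_left e hm
    refine ⟨by rw [hex]; omega, fun heq => ?_⟩
    rw [hex] at heq
    omega

variable [Fintype L] [Fintype (IrrCharacter L)]

open scoped Classical in
/-- The constituents of a square of a character of degree `(p - 1) / 2`. -/
theorem square_split (he2 : 2 ≤ e) {f : Q → ℂ} {m : IrrCharacter Q → ℕ}
    (hf : f = ∑ χ : IrrCharacter Q, (m χ : ℂ) • (χ : Q → ℂ)) (hclass : IsClassFunction Q f)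
    (hdeg : f 1 = (e : ℂ) ^ 2) (hsum : ∑ i : ZMod p, f (pw x i) = (p : ℂ) * e)
    (hone : m (oneG Q) = 1) (hL : ∀ l : L, l ≠ 1 → f (l : Q) = 0) :
    (∀ χ, m χ ≤ 1) ∧
      (∀ χ, χ ≠ oneG Q → m χ ≠ 0 → (χ ∈ Plus h d ∧ charDegree (χ : Q → ℂ) = p + 1) ∨
        (χ ∈ Set.range d.exc ∧ d.ε = -1)) ∧
      2 * ∑ χ ∈ Plus h d, m χ + ∑ c, m (d.exc c) + 1 = e ∧ ∑ c, m (d.exc c) ≤ 1 ∧
      ∀ c, d.ε = -1 → m (d.exc c) ≠ 0 → charDegree (d.exc c : Q → ℂ) = e + 1 := by
  have := Fintype.ofFinite Q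
  have hpe := p_eq h d
  have hp0 : (p : ℂ) ≠ 0 := Nat.cast_ne_zero.mpr h.hS.hp.ne_zero
  have hM0 : ∑ χ : IrrCharacter Q, (m χ : ℤ) * m0 h χ = e := by
    apply Int.cast_injective (α := ℂ)
    push_cast
    refine mul_left_cancel₀ hp0 ?_
    rw [← hsum, hf, Finset.mul_sum]
    simp only [Finset.sum_apply, Pi.smul_apply, smul_eq_mul]
    rw [Finset.sum_comm]
    refine Finset.sum_congr rfl fun χ _ => ?_
    rw [← Finset.mul_sum, sum_apply_pw h]
    ring
  have hex : ∑ χ : IrrCharacter Q, (m χ : ℤ) * excess h χ = (e : ℤ) * (e + 1) := by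
    apply Int.cast_injective (α := ℂ)
    push_cast
    rw [← sum_excess h hf, hsum, hdeg, hpe]
    push_cast
    ring
  have hone' : excess h (oneG Q) = 2 * (e : ℤ) ∧ m0 h (oneG Q) = 1 := by
    have h1 := excess_oneG h d
    refine ⟨by rw [h1]; omega, ?_⟩
    apply Nat.cast_injective (R := ℂ)
    refine mul_left_cancel₀ hp0 ?_
    rw [← sum_apply_pw h]
    simp
  have hle : ∀ χ ∈ Finset.univ.erase (oneG Q), (m χ : ℤ) * excess h χ ≤ (m χ : ℤ) * ((e : ℤ) * m0 h χ) :=
    fun χ hχ => mul_le_mul_of_nonneg_left (square_terms h d χ (Finset.ne_of_mem_erase hχ)).1 (Int.natCast_nonneg _)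
  have heq := (Finset.sum_eq_sum_iff_of_le hle).mp (by
    rw [← Finset.add_sum_erase _ _ (Finset.mem_univ (oneG Q)), hone, hone'.1] at hex
    rw [← Finset.add_sum_erase _ _ (Finset.mem_univ (oneG Q)), hone, hone'.2] at hM0
    simp only [mul_left_comm _ (e : ℤ), ← Finset.mul_sum]
    push_cast at hM0 hex
    linear_combination hex - (e : ℤ) * hM0)
  have hcases : ∀ χ, χ ≠ oneG Q → m χ ≠ 0 → (χ ∈ Plus h d ∧ m0 h χ = 2 ∧ charDegree (χ : Q → ℂ) = p + 1) ∨
      (χ ∈ Set.range d.exc ∧ d.ε = -1 ∧ m0 h χ = 1) := fun χ hne h0 =>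
    (square_terms h d χ hne).2
      (mul_left_cancel₀ (Int.natCast_ne_zero.mpr h0) (heq χ (Finset.mem_erase.mpr ⟨hne, Finset.mem_univ _⟩)))
  have hfix : ∀ μ : IrrCharacter L, ∑ χ : IrrCharacter Q, m χ * lin h χ μ = 1 := by
    intro μ
    refine lin_product h hf (g := fun _ => 1) (fun l => ?_) μ
    simp only [Nat.cast_one, one_mul]
    rw [sum_irr_L h]
    split_ifs with hl
    · subst hl
      rw [fixedPart]
      simp only [OneMemClass.coe_one, mul_one]
      rw [hsum, inv_mul_cancel_left₀ hp0]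
    · rw [fixedPart_ne_one h hclass hl, hL l hl]
  have hexlin : ∀ χ, 1 ≤ m0 h χ → ∃ μ : IrrCharacter L, 1 ≤ lin h χ μ := by
    intro χ hm
    by_contra hcon
    push Not at hcon
    have := sum_lin h χ
    rw [Finset.sum_eq_zero fun μ _ => by have := hcon μ; omega] at this
    omega
  have hle1 : ∀ χ, m χ ≤ 1 := by
    intro χ
    by_cases h1 : χ = oneG Q
    · rw [h1, hone]
    by_contra hlt
    obtain ⟨μ, hμ⟩ := hexlin χ (by rcases hcases χ h1 (by omega) with ⟨-, h2, -⟩ | ⟨-, -, h2⟩ <;> omega)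
    have h2 := hfix μ
    have h3 := Finset.single_le_sum (f := fun ψ : IrrCharacter Q => m ψ * lin h ψ μ)
      (fun _ _ => Nat.zero_le _) (Finset.mem_univ χ)
    have h4 := Nat.mul_le_mul (show 2 ≤ m χ by omega) hμ
    omega
  have hexc : ∀ c c', m (d.exc c) ≠ 0 → m (d.exc c') ≠ 0 → c = c' := by
    intro c c' hc hc'
    by_contra hne
    have hm : ∀ a, m (d.exc a) ≠ 0 → m0 h (d.exc a) = 1 := fun a ha => by
      rcases hcases _ (exc_ne_one h d a) ha with ⟨h2, -⟩ | ⟨-, -, h2⟩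
      · exact absurd ⟨a, rfl⟩ ((mem_Plus h d).mp h2).2.1
      · exact h2
    obtain ⟨μ, hμ⟩ := hexlin (d.exc c) (by rw [hm c hc])
    have hsame : lin h (d.exc c) μ = lin h (d.exc c') μ := by
      apply Nat.cast_injective (R := ℂ)
      rw [← lin_spec h, ← lin_spec h]
      congr 1
      funext l
      by_cases hl : l = 1
      · rw [hl, fixedPart_one h, fixedPart_one h, hm c hc, hm c' hc']
      · rw [fixedPart_ne_one h (irr_class _) hl, fixedPart_ne_one h (irr_class _) hl,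
          exc_agree h d c c' (h.hS.regular_L l)]
    have h2 := hfix μ
    have h3 := Finset.sum_le_sum_of_subset (f := fun ψ : IrrCharacter Q => m ψ * lin h ψ μ)
      (Finset.subset_univ {d.exc c, d.exc c'})
    rw [Finset.sum_pair (fun e' => hne (d.inj e'))] at h3
    have h4 := Nat.mul_le_mul (Nat.one_le_iff_ne_zero.mpr hc) hμ
    have h5 := Nat.mul_le_mul (Nat.one_le_iff_ne_zero.mpr hc') (hsame ▸ hμ)
    omega
  have hexc1 : ∑ c, m (d.exc c) ≤ 1 := by
    by_cases h0 : ∃ c, m (d.exc c) ≠ 0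
    · obtain ⟨c, hc⟩ := h0
      rw [Finset.sum_eq_single c (fun a _ hne => by_contra fun ha => hne (hexc a c ha hc))
        (fun h' => absurd (Finset.mem_univ _) h')]
      exact hle1 _
    · push Not at h0
      rw [Finset.sum_eq_zero fun c _ => h0 c]
      omega
  refine ⟨hle1, fun χ h1 h2 => ?_, ?_, hexc1, fun c hε hc => ?_⟩
  · rcases hcases χ h1 h2 with ⟨a, -, b⟩ | ⟨a, b, -⟩
    · exact Or.inl ⟨a, b⟩
    · exact Or.inr ⟨a, b⟩
  · apply Nat.cast_injective (R := ℤ)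
    push_cast
    rw [sum_split h d, hone, hone'.1] at hex
    rw [Finset.sum_congr rfl (g := fun χ => (m χ : ℤ) * (2 * e)) (fun χ hχ => by
        obtain ⟨hB, hr, -, hδ⟩ := (mem_Plus h d).mp hχ
        rw [excess_cst h d hB hr, hδ]; rw [show ((p - 1 : ℕ) : ℤ) = 2 * e by omega]; ring),
      Finset.sum_eq_zero (s := Minus h d) (fun χ hχ => by
        rcases eq_or_ne (m χ) 0 with h0 | h0
        · rw [h0, Nat.cast_zero, zero_mul]
        · have hm := (mem_Minus h d).mp hχ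
          rcases hcases χ hm.2.2.1 h0 with ⟨h1, -⟩ | ⟨h1, -⟩
          · have h2 := ((mem_Plus h d).mp h1).2.2.2
            have := hm.2.2.2
            omega
          · exact absurd h1 hm.2.1),
      Finset.sum_congr (s₁ := (Finset.univ : Finset ((ZMod p)ˣ ⧸ U h.hS (oneK x L : K x L → ℂ)))) rfl
        (g := fun c => (m (d.exc c) : ℤ) * e) (fun c _ => by
        rcases eq_or_ne (m (d.exc c)) 0 with h0 | h0
        · rw [h0]; simp
        · rcases hcases _ (exc_ne_one h d c) h0 with ⟨h1, -⟩ | ⟨-, hε, -⟩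
          · exact absurd ⟨c, rfl⟩ ((mem_Plus h d).mp h1).2.1
          · rw [excess_exc h d c, hε]; ring),
      Finset.sum_eq_zero (s := Finset.univ.filter _) (fun χ hχ => by
        rw [excess_out h d (Finset.mem_filter.mp hχ).2, mul_zero]),
      ← Finset.sum_mul, ← Finset.sum_mul] at hex
    refine mul_left_cancel₀ (show (e : ℤ) ≠ 0 by omega) ?_
    linear_combination hex
  · rcases hcases _ (exc_ne_one h d c) hc with ⟨h1, -⟩ | ⟨-, -, h2⟩
    · exact absurd ⟨c, rfl⟩ ((mem_Plus h d).mp h1).2.1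
    · have h3 := exc_eq h d c
      rw [hε, h2] at h3
      push_cast at h3
      omega

open scoped Classical in
/-- The constituents of the mixed product. -/
theorem mixed_split (he2 : 2 ≤ e) {f : Q → ℂ} {m : IrrCharacter Q → ℕ}
    (hf : f = ∑ χ : IrrCharacter Q, (m χ : ℂ) • (χ : Q → ℂ))
    (hdeg : f 1 = (e : ℂ) ^ 2) (hsum : ∑ i : ZMod p, f (pw x i) = 0) :
    (∀ χ, m χ ≠ 0 → (χ ∈ Minus h d ∧ charDegree (χ : Q → ℂ) + 1 = p) ∨
        (χ ∈ Set.range d.exc ∧ d.ε = 1 ∧ charDegree (χ : Q → ℂ) = e)) ∧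
      2 * ∑ χ ∈ Minus h d, m χ + ∑ c, m (d.exc c) = e := by
  have hpe := p_eq h d
  have hp0 : (p : ℂ) ≠ 0 := Nat.cast_ne_zero.mpr h.hS.hp.ne_zero
  have hM0 : ∑ χ : IrrCharacter Q, m χ * m0 h χ = 0 := by
    apply Nat.cast_injective (R := ℂ)
    push_cast
    refine mul_left_cancel₀ hp0 ?_
    rw [mul_zero, ← hsum, hf, Finset.mul_sum]
    simp only [Finset.sum_apply, Pi.smul_apply, smul_eq_mul]
    rw [Finset.sum_comm]
    refine Finset.sum_congr rfl fun χ _ => ?_
    rw [← Finset.mul_sum, sum_apply_pw h]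
    ring
  have hex : ∑ χ : IrrCharacter Q, (m χ : ℤ) * excess h χ = -((e : ℤ) * e) := by
    apply Int.cast_injective (α := ℂ)
    push_cast
    rw [← sum_excess h hf, hsum, hdeg]
    ring
  have hcases : ∀ χ, m χ ≠ 0 → (χ ∈ Minus h d ∧ charDegree (χ : Q → ℂ) + 1 = p) ∨
      (χ ∈ Set.range d.exc ∧ d.ε = 1 ∧ charDegree (χ : Q → ℂ) = e) := by
    intro χ h0
    have hm := Finset.sum_eq_zero_iff.mp hM0 χ (Finset.mem_univ _)
    have hm' : m0 h χ = 0 := (Nat.mul_eq_zero.mp hm).resolve_left h0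
    have hpos := deg_pos h χ
    rcases mem_cases h d χ with h1 | h1 | h1 | ⟨c, rfl⟩ | h1
    · exfalso
      subst h1
      have h2 := deg_eq_of_excess h d (oneG Q) (excess_oneG h d)
      rw [hm'] at h2
      push_cast at h2
      omega
    · have := (plus_eq h d h1).1
      omega
    · have := minus_eq h d h1
      rw [hm', mul_zero, zero_add] at this
      exact Or.inl ⟨h1, this⟩
    · have h2 := exc_eq h d c
      rw [hm'] at h2
      rcases d.hε with hε | hε
      · rw [hε] at h2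
        exact Or.inr ⟨⟨c, rfl⟩, hε, by push_cast at h2; omega⟩
      · rw [hε] at h2
        push_cast at h2
        omega
    · have h2 := deg_eq_of_excess h d χ (excess_out h d h1)
      rw [hm'] at h2
      push_cast at h2
      omega
  refine ⟨hcases, ?_⟩
  apply Nat.cast_injective (R := ℤ)
  push_cast
  rw [sum_split h d, Finset.sum_eq_zero (s := Plus h d) (fun χ hχ => by
      rcases eq_or_ne (m χ) 0 with h0 | h0
      · rw [h0, Nat.cast_zero, zero_mul]
      · have := (plus_eq h d hχ).1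
        have := (Nat.mul_eq_zero.mp (Finset.sum_eq_zero_iff.mp hM0 χ (Finset.mem_univ _))).resolve_left h0
        omega),
    Finset.sum_congr rfl (g := fun χ => (m χ : ℤ) * -(2 * e)) (fun χ hχ => by
      obtain ⟨hB, hr, -, hδ⟩ := (mem_Minus h d).mp hχ
      rw [excess_cst h d hB hr, hδ, show ((p - 1 : ℕ) : ℤ) = 2 * e by omega, one_mul]),
    Finset.sum_congr (s₁ := (Finset.univ : Finset ((ZMod p)ˣ ⧸ U h.hS (oneK x L : K x L → ℂ)))) rfl
      (g := fun c => (m (d.exc c) : ℤ) * -(e : ℤ)) (fun c _ => by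
      rcases eq_or_ne (m (d.exc c)) 0 with h0 | h0
      · rw [h0]; simp
      · rcases hcases _ h0 with ⟨h1, -⟩ | ⟨-, hε, -⟩
        · exact absurd ⟨c, rfl⟩ ((mem_Minus h d).mp h1).2.1
        · rw [excess_exc h d c, hε]; ring),
    Finset.sum_eq_zero (s := Finset.univ.filter _) (fun χ hχ => by
      rw [excess_out h d (Finset.mem_filter.mp hχ).2, mul_zero]),
    show m (oneG Q) = 0 from by_contra fun h0 => by
      rcases hcases _ h0 with ⟨h1, -⟩ | ⟨h1, -⟩
      · exact ((mem_Minus h d).mp h1).2.2.1 rfl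
      · exact d.one_notin h1,
    ← Finset.sum_mul, ← Finset.sum_mul] at hex
  refine mul_left_cancel₀ (show (e : ℤ) ≠ 0 by omega) ?_
  push_cast at hex
  linear_combination -hex

omit [Fintype L] [Fintype (IrrCharacter L)]

set_option maxHeartbeats 1000000 in
open scoped Classical in
/-- The principal block. -/
theorem block_values [Fintype Q] (he2 : 2 ≤ e) {f g F : Q → ℂ} (hf : IsCharacter Q f) (hg : IsCharacter Q g)
    (hF : IsCharacter Q F) (hf1 : f 1 = (e : ℂ) ^ 2) (hg1 : g 1 = (e : ℂ) ^ 2) (hF1 : F 1 = (e : ℂ) ^ 2)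
    (hfs : ∑ i : ZMod p, f (pw x i) = (p : ℂ) * e) (hgs : ∑ i : ZMod p, g (pw x i) = (p : ℂ) * e)
    (hFs : ∑ i : ZMod p, F (pw x i) = 0)
    (hfo : classInner f ((oneG Q : IrrCharacter Q) : Q → ℂ) = 1)
    (hgo : classInner g ((oneG Q : IrrCharacter Q) : Q → ℂ) = 1)
    (hfL : ∀ l : L, l ≠ 1 → f (l : Q) = 0) (hgL : ∀ l : L, l ≠ 1 → g (l : Q) = 0)
    (hFF : ∀ a, F a * conj (F a) = f a * conj (g a)) (hFf : ∀ a, ¬ p ∣ orderOf a → F a = f a) :
    ∃ c₀, (∀ χ ∈ Plus h d, charDegree (χ : Q → ℂ) = p + 1) ∧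
      (∀ χ ∈ Minus h d, charDegree (χ : Q → ℂ) + 1 = p) ∧ (e + 1) ∣ Nat.card Q ∧
      ((d.ε = 1 ∧ charDegree (d.exc c₀ : Q → ℂ) = e ∧
          ∀ a, ¬ p ∣ orderOf a → ∑ χ ∈ Plus h d, (χ : Q → ℂ) a = f a - 1 ∧
            ∑ χ ∈ Minus h d, (χ : Q → ℂ) a = f a - (d.exc c₀ : Q → ℂ) a) ∨
        (d.ε = -1 ∧ charDegree (d.exc c₀ : Q → ℂ) = e + 1 ∧
          ∀ a, ¬ p ∣ orderOf a → ∑ χ ∈ Plus h d, (χ : Q → ℂ) a = f a - 1 - (d.exc c₀ : Q → ℂ) a ∧
            ∑ χ ∈ Minus h d, (χ : Q → ℂ) a = f a)) := by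
  have := Fintype.ofFinite L
  have := Fintype.ofFinite (IrrCharacter L)
  have hpe := p_eq h d
  obtain ⟨mf, hmf, hmf'⟩ := Char.IsCharacter.decompose hf
  obtain ⟨mg, hmg, hmg'⟩ := Char.IsCharacter.decompose hg
  obtain ⟨mF, hmF, hmF'⟩ := Char.IsCharacter.decompose hF
  have hf1' : mf (oneG Q) = 1 := by exact_mod_cast (hmf' (oneG Q)).symm.trans hfo
  have hg1' : mg (oneG Q) = 1 := by exact_mod_cast (hmg' (oneG Q)).symm.trans hgo
  obtain ⟨hf_le, hf_mem, hf_cnt, hf_exc, hf_deg⟩ := square_split h d he2 hmf (Char.IsCharacter.isClassFunction hf) hf1 hfs hf1' hfL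
  obtain ⟨hg_le, -, -, -, -⟩ := square_split h d he2 hmg (Char.IsCharacter.isClassFunction hg) hg1 hgs hg1' hgL
  obtain ⟨hF_mem, hF_cnt⟩ := mixed_split h d he2 hmF hF1 hFs
  have hinner : ∀ (u : Q → ℂ) (mu : IrrCharacter Q → ℕ) (v : Q → ℂ) (mv : IrrCharacter Q → ℕ),
      u = ∑ χ, (mu χ : ℂ) • (χ : Q → ℂ) → (∀ χ : IrrCharacter Q, classInner v (χ : Q → ℂ) = (mv χ : ℂ)) →
      classInner v u = ((∑ χ, mv χ * mu χ : ℕ) : ℂ) := by
    intro u mu v mv hu hv
    rw [hu, Char.classInner_sum_right, Nat.cast_sum]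
    exact Finset.sum_congr rfl fun χ _ => by
      rw [Char.classInner_smul_right, hv, Complex.conj_natCast, Nat.cast_mul, mul_comm]
  have hnorm : ∑ χ, mF χ * mF χ = ∑ χ, mf χ * mg χ := by
    have h1 : classInner F F = classInner f g := by
      simp only [classInner]
      exact congrArg _ (Finset.sum_congr rfl fun a _ => hFF a)
    rw [hinner F mF F mF hmF hmF', hinner g mg f mf hmg hmf'] at h1
    exact_mod_cast h1
  have hupper : ∑ χ, mf χ * mg χ ≤ 1 + ∑ χ ∈ Plus h d, mf χ + ∑ c, mf (d.exc c) := by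
    refine (Finset.sum_le_sum fun χ _ => (Nat.mul_le_mul_left _ (hg_le χ)).trans_eq (mul_one _)).trans_eq ?_
    rw [sum_split h d, hf1', Finset.sum_eq_zero (s := Minus h d) (fun χ hχ => by_contra fun h0 => by
        have hm := (mem_Minus h d).mp hχ
        rcases hf_mem χ hm.2.2.1 h0 with ⟨h1, -⟩ | ⟨h1, -⟩
        · have := ((mem_Plus h d).mp h1).2.2.2
          have := hm.2.2.2
          omega
        · exact hm.2.1 h1),
      Finset.sum_eq_zero (s := Finset.univ.filter _) (fun χ hχ => by_contra fun h0 => by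
        have hB := (Finset.mem_filter.mp hχ).2
        rcases hf_mem χ (fun h1 => hB (h1 ▸ d.oneB)) h0 with ⟨h1, -⟩ | ⟨⟨c, rfl⟩, -⟩
        · exact hB ((mem_Plus h d).mp h1).1
        · exact hB (d.excB c))]
    omega
  have hlower : ∑ χ ∈ Minus h d, mF χ * mF χ + ∑ c, mF (d.exc c) * mF (d.exc c) ≤
      1 + ∑ χ ∈ Plus h d, mf χ + ∑ c, mf (d.exc c) := by
    refine le_trans ?_ (hnorm ▸ hupper)
    rw [sum_split h d (fun χ => mF χ * mF χ)]
    omega
  have hexc_sum : ∀ c, mF (d.exc c) ≠ 0 → d.ε = 1 := fun c hc => by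
    rcases hF_mem _ hc with ⟨h1, -⟩ | ⟨-, h1, -⟩
    · exact absurd ⟨c, rfl⟩ ((mem_Minus h d).mp h1).2.1
    · exact h1
  have hexc_sum' : ∀ c, mf (d.exc c) ≠ 0 → d.ε = -1 := fun c hc => by
    rcases hf_mem _ (exc_ne_one h d c) hc with ⟨h1, -⟩ | ⟨-, h1⟩
    · exact absurd ⟨c, rfl⟩ ((mem_Plus h d).mp h1).2.1
    · exact h1
  have hsqge : ∀ {ι : Type _} (s : Finset ι) (m : ι → ℕ), ∀ a ∈ s, ∑ b ∈ s, m b + (m a * m a - m a) ≤ ∑ b ∈ s, m b * m b := by
    intro ι s m a ha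
    rw [← Finset.add_sum_erase _ _ ha, ← Finset.add_sum_erase _ (fun b => m b * m b) ha]
    have := Finset.sum_le_sum (s := s.erase a) (fun b _ => Nat.le_mul_self (m b))
    have := Nat.le_mul_self (m a)
    omega
  have hcardPM := card_plus_minus h d
  have hPle : ∑ χ ∈ Plus h d, mf χ ≤ (Plus h d).card := by
    rw [Finset.card_eq_sum_ones]; exact Finset.sum_le_sum fun χ _ => hf_le χ
  have hsM := Finset.sum_le_sum (s := Minus h d) (fun χ _ => Nat.le_mul_self (mF χ))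
  have hsX := Finset.sum_le_sum (s := (Finset.univ : Finset ((ZMod p)ˣ ⧸ U h.hS (oneK x L : K x L → ℂ))))
    (fun c _ => Nat.le_mul_self (mF (d.exc c)))
  have hzeroX : (d.ε = 1 → ∑ c, mf (d.exc c) = 0) ∧ (d.ε = -1 → ∑ c, mF (d.exc c) = 0) := by
    refine ⟨fun hε => Finset.sum_eq_zero fun c _ => by_contra fun h0 => ?_,
      fun hε => Finset.sum_eq_zero fun c _ => by_contra fun h0 => ?_⟩
    · have := hexc_sum' c h0; omega
    · have := hexc_sum c h0; omega
  have hMle : ∀ χ ∈ Minus h d, mF χ ≤ 1 := by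
    intro χ hχ
    by_contra hlt
    have h1 := hsqge (Minus h d) mF χ hχ
    have h2 := Nat.mul_le_mul_right (mF χ) (show 2 ≤ mF χ by omega)
    rcases d.hε with hε | hε
    · have := hzeroX.1 hε; omega
    · have := hzeroX.2 hε; omega
  have hMle' : ∑ χ ∈ Minus h d, mF χ ≤ (Minus h d).card := by
    rw [Finset.card_eq_sum_ones]; exact Finset.sum_le_sum hMle
  have hOut : ∀ χ, χ ∈ Finset.univ.filter (fun χ => χ ∉ principalBlock M Q) → χ ∉ principalBlock M Q :=
    fun χ hχ => (Finset.mem_filter.mp hχ).2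
  have hsumsF : ∀ a, F a = ∑ χ ∈ Minus h d, (mF χ : ℂ) * (χ : Q → ℂ) a + ∑ c, (mF (d.exc c) : ℂ) * (d.exc c : Q → ℂ) a := by
    intro a
    have h1 := congrFun hmF a
    simp only [Finset.sum_apply, Pi.smul_apply, smul_eq_mul] at h1
    rw [h1, sum_split h d]
    have hz : ∀ χ, χ ∉ Minus h d → χ ∉ Set.range d.exc → (mF χ : ℂ) * (χ : Q → ℂ) a = 0 := by
      intro χ h2 h3
      rcases eq_or_ne (mF χ) 0 with h0 | h0
      · rw [h0, Nat.cast_zero, zero_mul]
      · rcases hF_mem χ h0 with ⟨h4, -⟩ | ⟨h4, -⟩ <;> contradiction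
    rw [hz (oneG Q) (fun h' => ((mem_Minus h d).mp h').2.2.1 rfl) d.one_notin,
      Finset.sum_eq_zero (s := Plus h d) (fun χ hχ => hz χ (fun h' => by
        have := ((mem_Plus h d).mp hχ).2.2.2
        have := ((mem_Minus h d).mp h').2.2.2
        omega) ((mem_Plus h d).mp hχ).2.1),
      Finset.sum_eq_zero (s := Finset.univ.filter _) (fun χ hχ => hz χ (fun h' => hOut χ hχ ((mem_Minus h d).mp h').1)
        (fun ⟨c, hc⟩ => hOut χ hχ (hc ▸ d.excB c)))]
    ring
  have hsumsf : ∀ a, f a = 1 + ∑ χ ∈ Plus h d, (mf χ : ℂ) * (χ : Q → ℂ) a + ∑ c, (mf (d.exc c) : ℂ) * (d.exc c : Q → ℂ) a := by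
    intro a
    have h1 := congrFun hmf a
    simp only [Finset.sum_apply, Pi.smul_apply, smul_eq_mul] at h1
    rw [h1, sum_split h d, hf1', show ((oneG Q : IrrCharacter Q) : Q → ℂ) a = 1 from rfl, Nat.cast_one, one_mul]
    have hz : ∀ χ, χ ≠ oneG Q → χ ∉ Plus h d → χ ∉ Set.range d.exc → (mf χ : ℂ) * (χ : Q → ℂ) a = 0 := by
      intro χ h2 h3 h5
      rcases eq_or_ne (mf χ) 0 with h0 | h0
      · rw [h0, Nat.cast_zero, zero_mul]
      · rcases hf_mem χ h2 h0 with ⟨h4, -⟩ | ⟨h4, -⟩ <;> contradiction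
    rw [Finset.sum_eq_zero (s := Minus h d) (fun χ hχ => hz χ ((mem_Minus h d).mp hχ).2.2.1 (fun h' => by
        have := ((mem_Plus h d).mp h').2.2.2
        have := ((mem_Minus h d).mp hχ).2.2.2
        omega) ((mem_Minus h d).mp hχ).2.1),
      Finset.sum_eq_zero (s := Finset.univ.filter _) (fun χ hχ => hz χ (fun h' => hOut χ hχ (h' ▸ d.oneB))
        (fun h' => hOut χ hχ ((mem_Plus h d).mp h').1)
        (fun ⟨c, hc⟩ => hOut χ hχ (hc ▸ d.excB c)))]
    ring
  have hfin : ∀ (hPall : ∑ χ ∈ Plus h d, mf χ = (Plus h d).card) (hMall : ∑ χ ∈ Minus h d, mF χ = (Minus h d).card),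
      (∀ χ ∈ Plus h d, mf χ = 1) ∧ (∀ χ ∈ Minus h d, mF χ = 1) := fun hPall hMall =>
    ⟨(Finset.sum_eq_sum_iff_of_le (g := fun _ => 1) (fun χ _ => hf_le χ)).mp (by rw [hPall, Finset.card_eq_sum_ones]),
      (Finset.sum_eq_sum_iff_of_le (g := fun _ => 1) hMle).mp (by rw [hMall, Finset.card_eq_sum_ones])⟩
  rcases d.hε with hε | hε
  · have hX := hzeroX.1 hε
    have hX1 : ∑ c, mF (d.exc c) = 1 := by omega
    obtain ⟨hP1, hM1⟩ := hfin (by omega) (by omega)
    obtain ⟨c₀, -, hc₀⟩ := Finset.exists_ne_zero_of_sum_ne_zero (by rw [hX1]; omega)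
    have hc0' : ∀ c, c ≠ c₀ → mF (d.exc c) = 0 := by
      intro c hne
      have h1 := Finset.add_sum_erase Finset.univ (fun c => mF (d.exc c)) (Finset.mem_univ c₀)
      have h2 := Finset.single_le_sum (f := fun c => mF (d.exc c)) (fun _ _ => Nat.zero_le _)
        (Finset.mem_erase.mpr ⟨hne, Finset.mem_univ c⟩)
      omega
    have hc1 : mF (d.exc c₀) = 1 := by
      rw [Finset.sum_eq_single c₀ (fun c _ hne => hc0' c hne) (fun h' => absurd (Finset.mem_univ _) h')] at hX1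
      exact hX1
    have hdegP : ∀ χ ∈ Plus h d, charDegree (χ : Q → ℂ) = p + 1 := fun χ hχ => by
      rcases hf_mem χ ((mem_Plus h d).mp hχ).2.2.1 (by rw [hP1 χ hχ]; omega) with ⟨-, h2⟩ | ⟨-, h2⟩
      · exact h2
      · omega
    have hdegM : ∀ χ ∈ Minus h d, charDegree (χ : Q → ℂ) + 1 = p := fun χ hχ => by
      rcases hF_mem χ (by rw [hM1 χ hχ]; omega) with ⟨-, h2⟩ | ⟨h2, -⟩
      · exact h2
      · exact absurd h2 ((mem_Minus h d).mp hχ).2.1
    refine ⟨c₀, hdegP, hdegM, ?_, Or.inl ⟨hε, ?_, fun a ha => ?_⟩⟩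
    · obtain ⟨χ, hχ⟩ : (Plus h d).Nonempty := Finset.card_pos.mp (by omega)
      have h1 := Codegree.deg_dvd_card χ
      rw [hdegP χ hχ, show p + 1 = 2 * (e + 1) by omega] at h1
      exact (dvd_mul_left (e + 1) 2).trans h1
    · rcases hF_mem _ hc₀ with ⟨h1, -⟩ | ⟨-, -, h1⟩
      · exact absurd ⟨c₀, rfl⟩ ((mem_Minus h d).mp h1).2.1
      · exact h1
    · have h1 := hsumsf a
      rw [Finset.sum_congr rfl (g := fun χ : IrrCharacter Q => (χ : Q → ℂ) a) (fun χ hχ => by rw [hP1 χ hχ, Nat.cast_one, one_mul]),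
        Finset.sum_eq_zero (s := (Finset.univ : Finset ((ZMod p)ˣ ⧸ U h.hS (oneK x L : K x L → ℂ)))) (fun c _ => by
          rw [Finset.sum_eq_zero_iff.mp hX c (Finset.mem_univ _), Nat.cast_zero, zero_mul]), add_zero] at h1
      have h2 := hsumsF a
      rw [hFf a ha, Finset.sum_congr rfl (g := fun χ : IrrCharacter Q => (χ : Q → ℂ) a) (fun χ hχ => by rw [hM1 χ hχ, Nat.cast_one, one_mul]),
        Finset.sum_eq_single c₀ (fun c _ hne => by rw [hc0' c hne, Nat.cast_zero, zero_mul]) (fun h' => absurd (Finset.mem_univ _) h'),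
        hc1, Nat.cast_one, one_mul] at h2
      exact ⟨by linear_combination -h1, by linear_combination -h2⟩
  · have hX := hzeroX.2 hε
    have hX1 : ∑ c, mf (d.exc c) = 1 := by omega
    obtain ⟨hP1, hM1⟩ := hfin (by omega) (by omega)
    obtain ⟨c₀, -, hc₀⟩ := Finset.exists_ne_zero_of_sum_ne_zero (by rw [hX1]; omega)
    have hc0' : ∀ c, c ≠ c₀ → mf (d.exc c) = 0 := by
      intro c hne
      have h1 := Finset.add_sum_erase Finset.univ (fun c => mf (d.exc c)) (Finset.mem_univ c₀)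
      have h2 := Finset.single_le_sum (f := fun c => mf (d.exc c)) (fun _ _ => Nat.zero_le _)
        (Finset.mem_erase.mpr ⟨hne, Finset.mem_univ c⟩)
      omega
    have hc1 : mf (d.exc c₀) = 1 := by
      rw [Finset.sum_eq_single c₀ (fun c _ hne => hc0' c hne) (fun h' => absurd (Finset.mem_univ _) h')] at hX1
      exact hX1
    have hD := hf_deg c₀ hε hc₀
    refine ⟨c₀, fun χ hχ => ?_, fun χ hχ => ?_, hD ▸ Codegree.deg_dvd_card (d.exc c₀), Or.inr ⟨hε, hD, fun a ha => ?_⟩⟩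
    · rcases hf_mem χ ((mem_Plus h d).mp hχ).2.2.1 (by rw [hP1 χ hχ]; omega) with ⟨-, h2⟩ | ⟨h2, -⟩
      · exact h2
      · exact absurd h2 ((mem_Plus h d).mp hχ).2.1
    · rcases hF_mem χ (by rw [hM1 χ hχ]; omega) with ⟨-, h2⟩ | ⟨-, h2, -⟩
      · exact h2
      · omega
    · have h1 := hsumsf a
      rw [Finset.sum_congr rfl (g := fun χ : IrrCharacter Q => (χ : Q → ℂ) a) (fun χ hχ => by rw [hP1 χ hχ, Nat.cast_one, one_mul]),
        Finset.sum_eq_single c₀ (fun c _ hne => by rw [hc0' c hne, Nat.cast_zero, zero_mul]) (fun h' => absurd (Finset.mem_univ _) h'),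
        hc1, Nat.cast_one, one_mul] at h1
      have h2 := hsumsF a
      rw [hFf a ha, Finset.sum_congr rfl (g := fun χ : IrrCharacter Q => (χ : Q → ℂ) a) (fun χ hχ => by rw [hM1 χ hχ, Nat.cast_one, one_mul]),
        Finset.sum_eq_zero (s := (Finset.univ : Finset ((ZMod p)ˣ ⧸ U h.hS (oneK x L : K x L → ℂ)))) (fun c _ => by
          rw [Finset.sum_eq_zero_iff.mp hX c (Finset.mem_univ _), Nat.cast_zero, zero_mul]), add_zero] at h2
      exact ⟨by linear_combination -h1, by linear_combination -h2⟩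

end Cfsg.Agent.HalfDegree
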