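/-
Elementary arithmetic and group facts for faithful characters of degree `(p - 1) / 2`
(namespace `Cfsg.Agent.HalfDegree`).

Main results: `sum_index_two`, `card_sylow_cases`, `not_perfect_two_mul_odd`.
-/
import Cfsg.Agent.EqLemmas

set_option autoImplicit false
set_option linter.style.haveILetI false

namespace Cfsg.Agent.HalfDegree

open scoped BigOperators

/-- A sum over a group of an invariant function, for a subgroup of index two. -/
theorem sum_index_two {U : Type*} [CommGroup U] [Fintype U] (S : Subgroup U) (hS : S.index = 2) {s : U} (hs : s ∉ S)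
    {R : Type*} [AddCommMonoid R] (F : U → R) (hF : ∀ a ∈ S, ∀ u, F (a * u) = F u) :
    ∑ u, F u = Nat.card S • (F 1 + F s) := by
  classical
  have h1 : ∀ a ∈ S, F a = F 1 := fun a ha => by simpa using hF a ha 1
  have h2 : ∀ u, u ∉ S → F u = F s := fun u hu => by
    have hm : u * s⁻¹ ∈ S := (Subgroup.mul_mem_iff_of_index_two hS).mpr (iff_of_false hu (fun h => hs (by simpa using S.inv_mem h)))
    simpa using hF _ hm s
  have hcard : (Finset.univ.filter fun u => u ∈ S).card = Nat.card S := by
    rw [Nat.card_eq_fintype_card, Fintype.card_subtype]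
  have hcompl : (Finset.univ.filter fun u => u ∉ S).card = Nat.card S := by
    have h3 := Finset.card_filter_add_card_filter_not (s := (Finset.univ : Finset U)) (fun u => u ∈ S)
    have h4 := S.card_mul_index
    rw [hS, Nat.card_eq_fintype_card (α := U)] at h4
    rw [Finset.card_univ, hcard] at h3
    omega
  rw [← Finset.sum_filter_add_sum_filter_not Finset.univ (fun u => u ∈ S),
    Finset.sum_congr rfl (g := fun _ => F 1) (fun u hu => h1 u (Finset.mem_filter.mp hu).2),
    Finset.sum_congr (s₁ := Finset.univ.filter fun u => u ∉ S) rfl (g := fun _ => F s)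
      (fun u hu => h2 u (Finset.mem_filter.mp hu).2), Finset.sum_const, Finset.sum_const, hcard, hcompl, smul_add]

/-- The possible numbers of Sylow subgroups. -/
theorem card_sylow_cases {e p N : ℕ} (hp : p.Prime) (hpe : p = 2 * e + 1) (he : 2 ≤ e) (hN : N % p = 1)
    (hdvd : N ∣ e * (e ^ 2 - 1)) (he1 : e + 1 ∣ N) : N = p + 1 ∨ (e = 6 ∧ N = 105) := by
  obtain ⟨w, rfl⟩ := he1
  have hw : w ∣ e * (e - 1) := by
    refine (Nat.mul_dvd_mul_iff_left (show 0 < e + 1 by omega)).mp (hdvd.trans (dvd_of_eq ?_))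
    rw [show e ^ 2 - 1 = (e + 1) * (e - 1) by rw [← Nat.sq_sub_sq e 1, one_pow]]
    ring
  obtain ⟨v, hv⟩ := hw
  have : Fact p.Prime := ⟨hp⟩
  obtain ⟨e', rfl⟩ : ∃ e', e = e' + 1 := ⟨e - 1, by omega⟩
  rw [Nat.add_sub_cancel] at hv
  have hw2 : (w : ZMod p) = 2 := by
    have h1 : (((e' + 1 + 1) * w : ℕ) : ZMod p) = 1 := by
      rw [← ZMod.natCast_mod, hN, Nat.cast_one]
    have h2 : ((2 * (e' + 1) + 1 : ℕ) : ZMod p) = 0 := by rw [← hpe, ZMod.natCast_self]
    push_cast at h1 h2
    linear_combination 2 * h1 - (w : ZMod p) * h2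
  have h8 : ((8 * v : ℕ) : ZMod p) = ((3 : ℕ) : ZMod p) := by
    have h1 := congrArg (Nat.cast (R := ZMod p)) hv
    have h2 : ((2 * (e' + 1) + 1 : ℕ) : ZMod p) = 0 := by rw [← hpe, ZMod.natCast_self]
    push_cast at h1 h2 ⊢
    rw [hw2] at h1
    linear_combination (-4 : ZMod p) * h1 + (2 * (e' : ZMod p) - 1) * h2
  have hwmod : w % p = 2 := by
    have h1 := congrArg ZMod.val hw2
    rw [ZMod.val_natCast] at h1
    rw [h1, show (2 : ZMod p) = ((2 : ℕ) : ZMod p) from rfl, ZMod.val_natCast, Nat.mod_eq_of_lt (by omega)]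
  have hwd := Nat.div_add_mod w p
  rcases Nat.eq_zero_or_pos (w / p) with hk | hk
  · left
    rw [hk, mul_zero, zero_add, hwmod] at hwd
    rw [← hwd]
    omega
  right
  have hwp : p + 2 ≤ w := by
    have := Nat.le_mul_of_pos_right p hk
    omega
  have hvb : 8 * v < 2 * p := by
    by_contra hle
    push Not at hle
    have h3 := Nat.mul_le_mul hwp hle
    rw [show w * (8 * v) = 8 * (w * v) by ring, ← hv, hpe] at h3
    nlinarith
  have h9 := (ZMod.natCast_eq_natCast_iff' (8 * v) 3 p).mp h8
  rw [Nat.mod_eq_of_lt (show 3 < p by omega)] at h9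
  have hv4 : e' + 3 = 4 * v := by
    rcases Nat.lt_or_ge (8 * v) p with h10 | h10
    · rw [Nat.mod_eq_of_lt h10] at h9
      omega
    · rw [Nat.mod_eq_sub_mod h10, Nat.mod_eq_of_lt (by omega)] at h9
      omega
  have hv6 : v ∣ 6 := by
    have h3 : v ∣ (e' + 1) * e' := Dvd.intro_left w hv.symm
    have h4 : ((e' + 1) * e' : ℤ) = v * (16 * v - 20) + 6 := by
      have h5 : (e' : ℤ) = 4 * v - 3 := by omega
      rw [h5]; ring
    have h6 : (v : ℤ) ∣ ((e' + 1) * e' : ℤ) := by exact_mod_cast h3
    rw [h4] at h6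
    exact_mod_cast (Int.dvd_add_right (dvd_mul_right _ _)).mp h6
  have hv7 := Nat.le_of_dvd (by norm_num) hv6
  have he' : e' = 4 * v - 3 := by omega
  subst he'
  have hp45 : p ≠ 45 ∧ p ≠ 21 := ⟨fun h => absurd (h ▸ hp) (by norm_num), fun h => absurd (h ▸ hp) (by norm_num)⟩
  interval_cases v <;> omega

/-- A group of order twice an odd number is not perfect. -/
theorem not_perfect_two_mul_odd {G : Type*} [Group G] [Finite G] {m : ℕ} (hG : Nat.card G = 2 * m) (hm : Odd m) :
    commutator G ≠ ⊤ := by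
  classical
  intro hperf
  have := Fintype.ofFinite G
  obtain ⟨t, ht⟩ := exists_prime_orderOf_dvd_card' 2 (hG ▸ dvd_mul_right 2 m)
  let f : G →* ℤˣ := Equiv.Perm.sign.comp (MulAction.toPermHom G G)
  have hker : commutator G ≤ f.ker := Abelianization.commutator_subset_ker f
  rw [hperf] at hker
  have h1 : f t = 1 := hker (Subgroup.mem_top t)
  set σ := MulAction.toPermHom G G t with hσ
  have hinj : Function.Injective (MulAction.toPermHom G G) := fun a b h => by
    simpa using congrArg (fun e : Equiv.Perm G => e 1) h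
  have ho : orderOf σ = 2 := by rw [hσ, orderOf_injective _ hinj, ht]
  have hsupp : σ.support = Finset.univ := by
    refine Finset.eq_univ_iff_forall.mpr fun g => ?_
    rw [Equiv.Perm.mem_support]
    show t * g ≠ g
    intro h
    rw [mul_eq_right.mp h, orderOf_one] at ht
    omega
  obtain ⟨n, hn⟩ := Equiv.Perm.cycleType_prime_order (σ := σ) (by rw [ho]; exact Nat.prime_two)
  have h2 := Equiv.Perm.sum_cycleType σ
  rw [hn, ho, Multiset.sum_replicate, hsupp, Finset.card_univ, ← Nat.card_eq_fintype_card, hG, smul_eq_mul] at h2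
  have h3 : f t = -1 := by
    show Equiv.Perm.sign σ = -1
    rw [Equiv.Perm.sign_of_cycleType, hn, ho, Multiset.sum_replicate, Multiset.card_replicate, smul_eq_mul]
    obtain ⟨k, rfl⟩ := hm
    exact Odd.neg_one_pow ⟨3 * k + 1, by omega⟩
  rw [h1] at h3
  exact absurd h3 (by decide)

end Cfsg.Agent.HalfDegree
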