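/-
A faithful character of degree `(p - 1) / 2`: the restriction to `⟨x⟩` and the centralizer of `x`
(namespace `Cfsg.Agent.HalfDegree`).

Main results: `Hyp`, `mu_indicator`, `value_sum`, `norm_sum`, `mixed_sum`, `norm_diff`, `K_le_center`,
`commute_decomp`.
-/
import Cfsg.Agent.Lib.HalfDegree.Arith
import Cfsg.Agent.Lib.HalfDegree.Tools
import Cfsg.Agent.Lib.CyclicDefect.SmallDegree
import Cfsg.Agent.Lib.BrauerFewSylow.Setup
import Cfsg.Agent.Lib.CentralChar.Fixed

set_option autoImplicit false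
set_option linter.unusedSectionVars false
set_option linter.style.haveILetI false

open scoped ComplexConjugate

namespace Cfsg.Agent.HalfDegree

open Cfsg Cfsg.Agent.Blocks Cfsg.Agent.CyclicDefect Cfsg.Agent.BrauerFewSylow

variable {G : Type*} [Group G] [Finite G] {p : ℕ} [Fact p.Prime] {x : G} {L : Subgroup G} {e : ℕ}
  {χ : IrrCharacter G}

/-- A faithful irreducible character of degree `e = (p - 1) / 2` with `e` classes of exponents. -/
structure Hyp (p : ℕ) [Fact p.Prime] (x : G) (L : Subgroup G) (e : ℕ) (χ : IrrCharacter G) : Prop where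
  hS : Setting p x L
  hpe : p = 2 * e + 1
  he : 2 ≤ e
  hdeg : charDegree (χ : G → ℂ) = e
  hfaith : ∀ g : G, (χ : G → ℂ) g = (χ : G → ℂ) 1 → g = 1
  hrange : e ≤ Nat.card (CyclicDefect.alpha hS).range
  hquasi : ∀ [Fintype G] (ψ : IrrCharacter G),
    classInner (fun g => (χ : G → ℂ) g * conj ((χ : G → ℂ) g)) (ψ : G → ℂ) ≠ 0 → ψ ≠ oneG G →
    Codegree.kerSub ψ ≤ Subgroup.center G

variable (h : Hyp p x L e χ)
include h

/-- The exponents of `x` in the representation. -/
noncomputable def mu (j : ZMod p) : ℕ :=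
  haveI := Fintype.ofFinite (IrrCharacter (K x L))
  ∑ φ : IrrCharacter (K x L), charDegree (φ : K x L → ℂ) * multN h.hS χ φ j

theorem mu_eq [Fintype (IrrCharacter (K x L))] (j : ZMod p) :
    mu h j = ∑ φ : IrrCharacter (K x L), charDegree (φ : K x L → ℂ) * multN h.hS χ φ j := by
  unfold mu
  convert rfl

/-- The squares, realised by the normalizer. -/
noncomputable abbrev Sq : Subgroup (ZMod p)ˣ := (CyclicDefect.alpha h.hS).range

theorem mu_spec (i : ZMod p) : (χ : G → ℂ) (pw x i) = ∑ j : ZMod p, (mu h j : ℂ) * ζ (i * j) := by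
  have := Fintype.ofFinite (IrrCharacter (K x L))
  have := Fintype.ofFinite (K x L)
  have h1 := apply_eq_sum h.hS (irr_class χ) i 1
  rw [OneMemClass.coe_one, OneMemClass.coe_one, mul_one] at h1
  rw [h1]
  simp only [mu_eq h, dec_eq_sum_mult, multN_spec h.hS, Nat.cast_sum, Nat.cast_mul, Finset.sum_mul]
  rw [Finset.sum_comm]
  refine Finset.sum_congr rfl fun j _ => Finset.sum_congr rfl fun φ _ => ?_
  rw [← charDegree_cast]
  ring

theorem sum_mu : ∑ j : ZMod p, mu h j = e := by
  have := Fintype.ofFinite (IrrCharacter (K x L))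
  have h1 := h.hdeg
  rw [charDegree_eq_sum h.hS χ] at h1
  simp only [mu_eq h]
  rw [Finset.sum_comm]
  refine Eq.trans ?_ h1
  exact Finset.sum_congr rfl fun φ _ => (Finset.mul_sum _ _ _).symm

theorem sum_zeta_apply (j : ZMod p) :
    ∑ i : ZMod p, ζ (-(i * j)) * (χ : G → ℂ) (pw x i) = (p : ℂ) * mu h j := by
  simp only [mu_spec h, Finset.mul_sum]
  rw [Finset.sum_comm, Finset.sum_eq_single j (fun k _ hk => ?_) (fun h' => absurd (Finset.mem_univ _) h')]
  · rw [Finset.sum_congr rfl (g := fun _ => (mu h j : ℂ)) (fun i _ => ?_), Finset.sum_const, Finset.card_univ,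
      ZMod.card, nsmul_eq_mul]
    rw [mul_left_comm, ← ζ_add, neg_add_cancel, ζ_zero, mul_one]
  · rw [Finset.sum_congr rfl (g := fun i => (mu h k : ℂ) * ζ (i * (k - j))) (fun i _ => ?_), ← Finset.mul_sum,
      sum_ζ_mul, if_neg (sub_ne_zero.mpr hk), mul_zero]
    rw [mul_left_comm, ← ζ_add, show -(i * j) + i * k = i * (k - j) by ring]

theorem apply_smul {a : (ZMod p)ˣ} (ha : a ∈ Sq h) (i : ZMod p) :
    (χ : G → ℂ) (pw x ((a : ZMod p) * i)) = (χ : G → ℂ) (pw x i) := by
  obtain ⟨l, rfl⟩ := ha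
  rw [← alpha_spec h.hS l i]
  exact irr_class χ (pw x i) (l : G)

theorem mu_smul {a : (ZMod p)ˣ} (ha : a ∈ Sq h) (j : ZMod p) : mu h ((a : ZMod p) * j) = mu h j := by
  have hp0 : (p : ℂ) ≠ 0 := Nat.cast_ne_zero.mpr h.hS.hp.ne_zero
  apply Nat.cast_injective (R := ℂ)
  refine mul_left_cancel₀ hp0 ?_
  rw [← sum_zeta_apply h, ← sum_zeta_apply h]
  refine Fintype.sum_equiv (Equiv.mulRight₀ (a : ZMod p) (Units.ne_zero a)) _ _ fun i => ?_
  show _ = ζ (-(i * (a : ZMod p) * j)) * (χ : G → ℂ) (pw x (i * (a : ZMod p)))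
  rw [mul_comm i (a : ZMod p), apply_smul h ha, show (a : ZMod p) * i * j = i * ((a : ZMod p) * j) by ring]

theorem card_units : Fintype.card (ZMod p)ˣ = 2 * e := by
  rw [ZMod.card_units, h.hpe]; omega

/-- The exponents form one of the two cosets of the squares. -/
theorem mu_indicator :
    mu h 0 = 0 ∧ Nat.card (Sq h) = e ∧ (Sq h).index = 2 ∧
      ∃ s : (ZMod p)ˣ, s ∉ Sq h ∧ mu h 1 + mu h (s : ZMod p) = 1 := by
  classical
  have he := h.he
  have hcard := card_units h
  have hmu := sum_mu h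
  have hsplit : ∑ j : ZMod p, mu h j = mu h 0 + ∑ u : (ZMod p)ˣ, mu h (u : ZMod p) := by
    have h1 := CyclicDefect.sum_units (p := p) (fun j => if j = 0 then 0 else mu h j) (if_pos rfl)
    simp only [Units.ne_zero, if_false] at h1
    rw [h1, ← Finset.add_sum_erase _ _ (Finset.mem_univ (0 : ZMod p)),
      ← Finset.add_sum_erase _ (fun j => if j = 0 then 0 else mu h j) (Finset.mem_univ (0 : ZMod p)), if_pos rfl, zero_add]
    exact congrArg _ (Finset.sum_congr rfl fun j hj => (if_neg (Finset.ne_of_mem_erase hj)).symm)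
  have hker : mu h 0 ≠ e := by
    intro h0
    have h1 : ∀ j, j ≠ 0 → mu h j = 0 := fun j hj => by
      rw [h0] at hsplit
      have h2 : ∑ u : (ZMod p)ˣ, mu h (u : ZMod p) = 0 := by omega
      exact Finset.sum_eq_zero_iff.mp h2 (Units.mk0 j hj) (Finset.mem_univ _)
    have h3 : (χ : G → ℂ) x = (χ : G → ℂ) 1 := by
      conv_lhs => rw [← h.hS.pw_one]
      conv_rhs => rw [← h.hS.pw_zero]
      rw [mu_spec h, mu_spec h]
      refine Finset.sum_congr rfl fun j _ => ?_
      rcases eq_or_ne j 0 with rfl | hj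
      · rw [mul_zero, mul_zero]
      · rw [h1 j hj, Nat.cast_zero, zero_mul, zero_mul]
    have h4 := h.hS.hx
    rw [h.hfaith x h3, orderOf_one] at h4
    exact h.hS.hp.ne_one h4.symm
  have hd : Nat.card (Sq h) * (Sq h).index = 2 * e := by
    rw [Subgroup.card_mul_index, Nat.card_eq_fintype_card, hcard]
  have hne : Sq h ≠ ⊤ := by
    intro htop
    have h1 : ∀ u : (ZMod p)ˣ, mu h (u : ZMod p) = mu h 1 := fun u => by
      simpa using mu_smul h (htop ▸ Subgroup.mem_top u) 1
    rw [hsplit, Finset.sum_congr rfl fun u _ => h1 u, Finset.sum_const, Finset.card_univ, hcard, smul_eq_mul] at hmu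
    rcases Nat.eq_zero_or_pos (mu h 1) with h2 | h2
    · rw [h2, mul_zero, add_zero] at hmu
      exact hker hmu
    · have := Nat.le_mul_of_pos_right (2 * e) h2
      omega
  have hidx : (Sq h).index = 2 := by
    have h1 : (Sq h).index ≠ 1 := fun h1 => hne (Subgroup.index_eq_one.mp h1)
    have h2 : (Sq h).index ≠ 0 := Subgroup.index_ne_zero_of_finite
    have h3 : e * (Sq h).index ≤ Nat.card (Sq h) * (Sq h).index := Nat.mul_le_mul_right _ h.hrange
    by_contra h4
    have h5 := Nat.mul_le_mul_left e (show 3 ≤ (Sq h).index by omega)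
    omega
  have hcardS : Nat.card (Sq h) = e := by rw [hidx] at hd; omega
  obtain ⟨s, hs⟩ := SetLike.exists_not_mem_of_ne_top (Sq h) hne rfl
  rw [hsplit, sum_index_two (Sq h) hidx hs (fun u => mu h (u : ZMod p))
    (fun a ha u => by rw [Units.val_mul, mu_smul h ha]), hcardS, smul_eq_mul, Units.val_one] at hmu
  have h1 : mu h 1 + mu h (s : ZMod p) = 1 := by
    rcases Nat.lt_trichotomy (mu h 1 + mu h (s : ZMod p)) 1 with h1 | h1 | h1
    · rw [show mu h 1 + mu h (s : ZMod p) = 0 by omega, mul_zero, add_zero] at hmu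
      exact absurd hmu hker
    · exact h1
    · have := Nat.mul_le_mul_left e (show 2 ≤ mu h 1 + mu h (s : ZMod p) by omega)
      omega
  rw [h1, mul_one] at hmu
  exact ⟨by omega, hcardS, hidx, s, hs, h1⟩

theorem mu_zero : mu h 0 = 0 := (mu_indicator h).1

theorem card_Sq : Nat.card (Sq h) = e := (mu_indicator h).2.1

theorem index_Sq : (Sq h).index = 2 := (mu_indicator h).2.2.1

open scoped Classical in
theorem mu_add {s : (ZMod p)ˣ} (hs : s ∉ Sq h) {j : ZMod p} (hj : j ≠ 0) :
    mu h j + mu h ((s : ZMod p) * j) = 1 := by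
  obtain ⟨-, -, hidx, s₀, hs₀, h1⟩ := mu_indicator h
  have hkey : ∀ u : (ZMod p)ˣ, mu h (u : ZMod p) = if u ∈ Sq h then mu h 1 else mu h (s₀ : ZMod p) := by
    intro u
    split_ifs with hu
    · simpa using mu_smul h hu 1
    · have hm : u * s₀⁻¹ ∈ Sq h := (Subgroup.mul_mem_iff_of_index_two hidx).mpr
        (iff_of_false hu (fun h' => hs₀ (by simpa using Subgroup.inv_mem _ h')))
      have h2 := mu_smul h hm (s₀ : ZMod p)
      rw [← Units.val_mul] at h2
      simpa using h2
  have h2 := hkey (Units.mk0 j hj)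
  have h3 := hkey (s * Units.mk0 j hj)
  rw [Units.val_mk0] at h2
  rw [Units.val_mul, Units.val_mk0] at h3
  by_cases hu : Units.mk0 j hj ∈ Sq h
  · rw [if_pos hu] at h2
    rw [if_neg (fun hm => hs (((Subgroup.mul_mem_iff_of_index_two hidx).mp hm).mpr hu))] at h3
    omega
  · rw [if_neg hu] at h2
    rw [if_pos ((Subgroup.mul_mem_iff_of_index_two hidx).mpr (iff_of_false hs hu))] at h3
    omega

theorem mu_le_one (j : ZMod p) : mu h j ≤ 1 := by
  rcases eq_or_ne j 0 with rfl | hj
  · rw [mu_zero h]; omega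
  · obtain ⟨-, -, -, s, hs, -⟩ := mu_indicator h
    have := mu_add h hs hj
    omega

/-- The values on the two classes sum to `-1`. -/
theorem value_sum {s : (ZMod p)ˣ} (hs : s ∉ Sq h) {i : ZMod p} (hi : i ≠ 0) :
    (χ : G → ℂ) (pw x i) + (χ : G → ℂ) (pw x ((s : ZMod p) * i)) = -1 := by
  classical
  have hs' : s⁻¹ ∉ Sq h := fun h' => hs (by simpa using Subgroup.inv_mem _ h')
  have h1 : ∑ j : ZMod p, (mu h j : ℂ) * ζ ((s : ZMod p) * i * j) =
      ∑ j : ZMod p, (mu h (((s⁻¹ : (ZMod p)ˣ) : ZMod p) * j) : ℂ) * ζ (i * j) := by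
    refine Fintype.sum_equiv (Equiv.mulLeft₀ (s : ZMod p) (Units.ne_zero s)) _ _ fun j => ?_
    show _ = (mu h (((s⁻¹ : (ZMod p)ˣ) : ZMod p) * ((s : ZMod p) * j)) : ℂ) * ζ (i * ((s : ZMod p) * j))
    rw [← mul_assoc ((s⁻¹ : (ZMod p)ˣ) : ZMod p), ← Units.val_mul, inv_mul_cancel, Units.val_one, one_mul,
      show (s : ZMod p) * i * j = i * ((s : ZMod p) * j) by ring]
  rw [mu_spec h, mu_spec h, h1, ← Finset.sum_add_distrib]
  have h2 := sum_ζ_mul (p := p) i
  rw [if_neg hi, ← Finset.add_sum_erase _ _ (Finset.mem_univ (0 : ZMod p)), zero_mul, ζ_zero] at h2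
  rw [← Finset.add_sum_erase _ _ (Finset.mem_univ (0 : ZMod p)), mul_zero ((s⁻¹ : (ZMod p)ˣ) : ZMod p), mu_zero h,
    Nat.cast_zero, zero_mul, zero_add, zero_add,
    Finset.sum_congr rfl (g := fun j => ζ (j * i)) (fun j hj => ?_)]
  · linear_combination h2
  · rw [← add_mul, ← Nat.cast_add, mu_add h hs' (Finset.ne_of_mem_erase hj), Nat.cast_one, one_mul, mul_comm]

theorem sum_mul_conj (a : (ZMod p)ˣ) :
    ∑ i : ZMod p, (χ : G → ℂ) (pw x ((a : ZMod p) * i)) * conj ((χ : G → ℂ) (pw x i)) =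
      (p : ℂ) * ∑ j : ZMod p, (mu h j : ℂ) * mu h ((a : ZMod p) * j) := by
  simp only [mu_spec h ((a : ZMod p) * _), Finset.sum_mul]
  rw [Finset.sum_comm, Finset.mul_sum]
  refine Finset.sum_congr rfl fun j _ => ?_
  have h1 : ∀ i : ZMod p, (mu h j : ℂ) * ζ ((a : ZMod p) * i * j) * conj ((χ : G → ℂ) (pw x i)) =
      (mu h j : ℂ) * conj (ζ (-(i * ((a : ZMod p) * j))) * (χ : G → ℂ) (pw x i)) := fun i => by
    rw [map_mul, conj_ζ, neg_neg, show i * ((a : ZMod p) * j) = (a : ZMod p) * i * j by ring]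
    ring
  rw [Finset.sum_congr rfl fun i _ => h1 i, ← Finset.mul_sum, ← map_sum, sum_zeta_apply h, map_mul,
    Complex.conj_natCast, Complex.conj_natCast]
  ring

theorem norm_sum : ∑ i : ZMod p, (χ : G → ℂ) (pw x i) * conj ((χ : G → ℂ) (pw x i)) = (p : ℂ) * e := by
  have h1 := sum_mul_conj h 1
  simp only [Units.val_one, one_mul] at h1
  rw [h1]
  congr 1
  rw [show (e : ℂ) = ((∑ j : ZMod p, mu h j : ℕ) : ℂ) by rw [sum_mu h], Nat.cast_sum]
  refine Finset.sum_congr rfl fun j _ => ?_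
  have := mu_le_one h j
  interval_cases mu h j <;> simp

theorem mixed_sum {s : (ZMod p)ˣ} (hs : s ∉ Sq h) :
    ∑ i : ZMod p, (χ : G → ℂ) (pw x ((s : ZMod p) * i)) * conj ((χ : G → ℂ) (pw x i)) = 0 := by
  rw [sum_mul_conj h, Finset.sum_eq_zero, mul_zero]
  intro j _
  rcases eq_or_ne j 0 with rfl | hj
  · rw [mu_zero h, Nat.cast_zero, zero_mul]
  · have := mu_add h hs hj
    rcases Nat.eq_zero_or_pos (mu h j) with h1 | h1
    · rw [h1, Nat.cast_zero, zero_mul]
    · rw [show mu h ((s : ZMod p) * j) = 0 by omega, Nat.cast_zero, mul_zero]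

/-- The difference of the two values has norm `p`. -/
theorem norm_diff {s : (ZMod p)ˣ} (hs : s ∉ Sq h) :
    ((χ : G → ℂ) x - (χ : G → ℂ) (pw x (s : ZMod p))) *
      conj ((χ : G → ℂ) x - (χ : G → ℂ) (pw x (s : ZMod p))) = (p : ℂ) := by
  classical
  have he := h.he
  set D : ZMod p → ℂ := fun i => ((χ : G → ℂ) (pw x i) - (χ : G → ℂ) (pw x ((s : ZMod p) * i))) *
    conj ((χ : G → ℂ) (pw x i) - (χ : G → ℂ) (pw x ((s : ZMod p) * i))) with hD
  have htot : ∑ i, D i = 2 * ((p : ℂ) * e) := by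
    simp only [hD, map_sub, sub_mul, mul_sub, Finset.sum_sub_distrib]
    have h2 : ∑ i : ZMod p, (χ : G → ℂ) (pw x i) * conj ((χ : G → ℂ) (pw x ((s : ZMod p) * i))) = 0 := by
      have := congrArg conj (mixed_sum h hs)
      rw [map_sum, map_zero] at this
      rw [← this]
      exact Finset.sum_congr rfl fun i _ => by rw [map_mul, Complex.conj_conj, mul_comm]
    have h3 : ∑ i : ZMod p, (χ : G → ℂ) (pw x ((s : ZMod p) * i)) * conj ((χ : G → ℂ) (pw x ((s : ZMod p) * i))) =
        (p : ℂ) * e := by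
      rw [← norm_sum h]
      exact Fintype.sum_equiv (Equiv.mulLeft₀ (s : ZMod p) (Units.ne_zero s)) _ _ fun i => rfl
    rw [norm_sum h, mixed_sum h hs, h2, h3]
    ring
  have hconst : ∀ i, i ≠ 0 → D i = D 1 := by
    intro i hi
    by_cases hu : Units.mk0 i hi ∈ Sq h
    · have h1 := apply_smul h hu 1
      have h2 := apply_smul h hu (s : ZMod p)
      rw [Units.val_mk0, mul_one] at h1
      rw [Units.val_mk0, mul_comm] at h2
      simp only [hD, mul_one, h1, h2]
    · have hm : Units.mk0 i hi * s ∈ Sq h := (Subgroup.mul_mem_iff_of_index_two (index_Sq h)).mpr (iff_of_false hu hs)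
      have h1 := apply_smul h hm 1
      rw [Units.val_mul, Units.val_mk0, mul_one, mul_comm] at h1
      have h3 := value_sum h hs hi
      have h4 := value_sum h hs (one_ne_zero (α := ZMod p))
      rw [mul_one] at h4
      have h5 : (χ : G → ℂ) (pw x i) = (χ : G → ℂ) (pw x (s : ZMod p)) := by linear_combination h3 - h4 - h1
      simp only [hD, mul_one, h1, h5]
      simp only [map_sub]
      ring
  rw [← Finset.add_sum_erase _ _ (Finset.mem_univ (0 : ZMod p)),
    Finset.sum_congr rfl (g := fun _ => D 1) (fun i hi => hconst i (Finset.ne_of_mem_erase hi)), Finset.sum_const,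
    Finset.card_erase_of_mem (Finset.mem_univ _), Finset.card_univ, ZMod.card] at htot
  have h0 : D 0 = 0 := by simp [hD, h.hS.pw_zero]
  rw [h0, zero_add, nsmul_eq_mul, show p - 1 = 2 * e by rw [h.hpe]; omega] at htot
  have h1 : D 1 = (p : ℂ) := by
    refine mul_left_cancel₀ (show ((2 * e : ℕ) : ℂ) ≠ 0 from Nat.cast_ne_zero.mpr (by omega)) ?_
    rw [htot]; push_cast; ring
  simpa only [hD, mul_one, h.hS.pw_one] using h1

theorem multN_K (φ : IrrCharacter (K x L)) {j : ZMod p} (hj : multN h.hS χ φ j ≠ 0) :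
    charDegree (φ : K x L → ℂ) = 1 ∧ multN h.hS χ φ j = 1 ∧ mu h j = 1 := by
  have := Fintype.ofFinite (IrrCharacter (K x L))
  have h1 : charDegree (φ : K x L → ℂ) * multN h.hS χ φ j ≤ mu h j := by
    rw [mu_eq h]
    exact Finset.single_le_sum (f := fun φ : IrrCharacter (K x L) =>
      charDegree (φ : K x L → ℂ) * multN h.hS χ φ j) (fun _ _ => Nat.zero_le _) (Finset.mem_univ φ)
  have h2 := mu_le_one h j
  have h3 : charDegree (φ : K x L → ℂ) ≠ 0 := fun h0 => irr_one_ne_zero φ (by rw [← charDegree_cast, h0, Nat.cast_zero])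
  have h4 : charDegree (φ : K x L → ℂ) * multN h.hS χ φ j = 1 := by
    have := Nat.mul_ne_zero h3 hj
    omega
  obtain ⟨h5, h6⟩ := mul_eq_one.mp h4
  exact ⟨h5, h6, by omega⟩

theorem multN_unique {φ φ' : IrrCharacter (K x L)} {j : ZMod p} (hj : multN h.hS χ φ j ≠ 0)
    (hj' : multN h.hS χ φ' j ≠ 0) : φ = φ' := by
  classical
  have := Fintype.ofFinite (IrrCharacter (K x L))
  by_contra hne
  obtain ⟨h1, h2, -⟩ := multN_K h φ hj
  obtain ⟨h1', h2', -⟩ := multN_K h φ' hj'
  have h3 : charDegree (φ : K x L → ℂ) * multN h.hS χ φ j + charDegree (φ' : K x L → ℂ) * multN h.hS χ φ' j ≤ mu h j := by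
    rw [mu_eq h]
    rw [← Finset.sum_pair (f := fun φ : IrrCharacter (K x L) => charDegree (φ : K x L → ℂ) * multN h.hS χ φ j) hne]
    exact Finset.sum_le_sum_of_subset (Finset.subset_univ {φ, φ'})
  rw [h1, h2, h1', h2'] at h3
  have := mu_le_one h j
  omega

set_option maxHeartbeats 800000 in
/-- The regular elements commuting with `x` are central. -/
theorem K_le_center (k : K x L) : ((k : L) : G) ∈ Subgroup.center G := by
  classical
  have := Fintype.ofFinite G
  have := Fintype.ofFinite (IrrCharacter G)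
  have := Fintype.ofFinite (K x L)
  have := Fintype.ofFinite (IrrCharacter (K x L))
  have hpe := h.hpe
  have he := h.he
  let T : IrrCharacter (K x L) → Finset (ZMod p) := fun φ => Finset.univ.filter fun j => multN h.hS χ φ j ≠ 0
  have hsumT : ∀ φ, ∑ j : ZMod p, multN h.hS χ φ j = (T φ).card := by
    intro φ
    rw [Finset.card_eq_sum_ones, Finset.sum_filter]
    refine Finset.sum_congr rfl fun j _ => ?_
    split_ifs with hj
    · exact (multN_K h φ hj).2.1
    · push Not at hj; exact hj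
  have hTsum : ∑ φ : IrrCharacter (K x L), (T φ).card = e := by
    refine Eq.trans ?_ ((charDegree_eq_sum h.hS χ).symm.trans h.hdeg)
    refine Finset.sum_congr rfl fun φ _ => ?_
    rcases Nat.eq_zero_or_pos (T φ).card with h0 | h0
    · rw [hsumT, h0, mul_zero]
    · obtain ⟨j, hj⟩ := Finset.card_pos.mp h0
      rw [hsumT, (multN_K h φ (Finset.mem_filter.mp hj).2).1, one_mul]
  by_contra hk
  by_cases hsingle : ∃ φ₀, ∀ φ, φ ≠ φ₀ → (T φ).card = 0
  · obtain ⟨φ₀, h0⟩ := hsingle
    rw [Finset.sum_eq_single φ₀ (fun φ _ hne => h0 φ hne) (fun h' => absurd (Finset.mem_univ _) h')] at hTsum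
    obtain ⟨j, hj⟩ := Finset.card_pos.mp (show 0 < (T φ₀).card by omega)
    have hdeg1 := (multN_K h φ₀ (Finset.mem_filter.mp hj).2).1
    have hχk : (χ : G → ℂ) ((k : L) : G) = (e : ℂ) * (φ₀ : K x L → ℂ) k := by
      have happ := apply_eq_sum h.hS (irr_class χ) (0 : ZMod p) k
      rw [h.hS.pw_zero, one_mul, Finset.sum_eq_single φ₀ (fun φ _ hne => ?_) (fun h' => absurd (Finset.mem_univ _) h'),
        dec_zero_eq h.hS, hsumT, hTsum] at happ
      · exact happ
      · rw [dec_zero_eq h.hS, hsumT, h0 φ hne, Nat.cast_zero, zero_mul]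
    refine hk (mem_center_of_norm_eq χ h.hfaith ?_)
    obtain ⟨f, hf⟩ := Char.exists_hom_of_degree_one (Char.IsIrrCharacter.isCharacter φ₀.2)
      (by rw [← charDegree_cast, hdeg1, Nat.cast_one])
    have hpow : f k ^ orderOf k = 1 := by rw [← map_pow, pow_orderOf_eq_one, map_one]
    rw [hχk, norm_mul, Complex.norm_natCast, h.hdeg, ← hf,
      Complex.norm_eq_one_of_pow_eq_one hpow (orderOf_pos k).ne', mul_one]
  push Not at hsingle
  have hle : ∀ φ φ', (T φ).card ≠ 0 → (T φ').card ≠ 0 → (T φ).card ≤ (T φ').card := by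
    intro φ φ' h1 h2
    obtain ⟨j, hj⟩ := Finset.card_pos.mp (Nat.pos_of_ne_zero h1)
    obtain ⟨j', hj'⟩ := Finset.card_pos.mp (Nat.pos_of_ne_zero h2)
    simp only [T, Finset.mem_filter, Finset.mem_univ, true_and] at hj hj'
    have hj0 : j ≠ 0 := fun e0 => by
      have := (multN_K h φ hj).2.2
      rw [e0, mu_zero h] at this
      omega
    have hj'0 : j' ≠ 0 := fun e0 => by
      have := (multN_K h φ' hj').2.2
      rw [e0, mu_zero h] at this
      omega
    have hquot : Units.mk0 j' hj'0 * (Units.mk0 j hj0)⁻¹ ∈ Sq h := by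
      by_contra hns
      have h3 := mu_add h hns hj0
      rw [Units.val_mul, Units.val_inv_eq_inv_val, Units.val_mk0, Units.val_mk0, mul_assoc, inv_mul_cancel₀ hj0,
        mul_one, (multN_K h φ hj).2.2, (multN_K h φ' hj').2.2] at h3
      omega
    obtain ⟨l, hl⟩ := hquot
    have hl' : (CyclicDefect.alpha h.hS l : ZMod p) * j = j' := by
      rw [hl, Units.val_mul, Units.val_inv_eq_inv_val, Units.val_mk0, Units.val_mk0, mul_assoc, inv_mul_cancel₀ hj0,
        mul_one]
    have hφ' : cjIrr h.hS l φ = φ' := by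
      refine multN_unique h (j := j') ?_ hj'
      rw [← hl', multN_cjIrr h.hS]
      exact hj
    refine Finset.card_le_card_of_injOn (fun i => (CyclicDefect.alpha h.hS l : ZMod p) * i) (fun i hi => ?_)
      (fun a _ b _ hab => mul_left_cancel₀ (Units.ne_zero _) hab)
    simp only [T, Finset.coe_filter, Finset.mem_univ, true_and, Set.mem_ofPred_eq] at hi ⊢
    rw [← hφ', multN_cjIrr h.hS]
    exact hi
  have hsmall : ∀ φ, 2 * (T φ).card ≤ e := by
    intro φ
    rcases Nat.eq_zero_or_pos (T φ).card with h0 | h0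
    · omega
    obtain ⟨φ', hne, hφ'⟩ := hsingle φ
    have h1 := hle φ φ' h0.ne' hφ'
    have h2 : (T φ).card + (T φ').card ≤ e := by
      rw [← hTsum, ← Finset.sum_pair (f := fun ψ => (T ψ).card) (Ne.symm hne)]
      exact Finset.sum_le_sum_of_subset (Finset.subset_univ _)
    omega
  obtain ⟨M, hM⟩ := CentralChar.exists_pModular p
  set F : G → ℂ := fun g => (χ : G → ℂ) g * conj ((χ : G → ℂ) g) with hF
  obtain ⟨m, hm, hmi⟩ := Char.IsCharacter.decompose (χ := F)
    (Char.IsCharacter.mul (Char.IsIrrCharacter.isCharacter χ.2) (Char.IsCharacter.conj (Char.IsIrrCharacter.isCharacter χ.2)))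
  have hconst : ∀ ψ : IrrCharacter G, dec (ψ : G → ℂ) (oneK x L : K x L → ℂ) (0 : ZMod p) =
      (ψ : G → ℂ) 1 → ∀ k : K x L, ((k : L) : G) ∈ Codegree.kerSub ψ := by
    intro ψ hψ k
    rw [dec_eq, classInner] at hψ
    simp only [h.hS.pw_zero, one_mul, oneK, Pi.one_apply, map_one, mul_one] at hψ
    rw [inv_mul_eq_iff_eq_mul₀ (Nat.cast_ne_zero.mpr Nat.card_pos.ne')] at hψ
    have h1 := congrArg Complex.re hψ
    rw [Complex.re_sum, ← charDegree_cast, ← Nat.cast_mul, Complex.natCast_re] at h1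
    have hle' : ∀ a ∈ (Finset.univ : Finset (K x L)), ((ψ : G → ℂ) ((a : L) : G)).re ≤ (charDegree (ψ : G → ℂ) : ℝ) :=
      fun a _ => (Complex.re_le_norm _).trans (by
        have := Char.IsCharacter.norm_le (Char.IsIrrCharacter.isCharacter ψ.2) ((a : L) : G)
        rwa [← charDegree_cast, Complex.natCast_re] at this)
    have h2 := (Finset.sum_eq_sum_iff_of_le hle').mp (by
      rw [h1, Finset.sum_const, Finset.card_univ, Nat.card_eq_fintype_card, nsmul_eq_mul, Nat.cast_mul]) k (Finset.mem_univ k)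
    have h3 := Char.IsCharacter.norm_le (Char.IsIrrCharacter.isCharacter ψ.2) ((k : L) : G)
    rw [← charDegree_cast, Complex.natCast_re] at h3
    rw [Codegree.mem_kerSub, ← charDegree_cast]
    refine Complex.ext (by rw [Complex.natCast_re]; exact h2) ?_
    rw [Complex.natCast_im]
    have h4 := Complex.sq_norm ((ψ : G → ℂ) ((k : L) : G))
    rw [Complex.normSq_apply, h2] at h4
    nlinarith [norm_nonneg ((ψ : G → ℂ) ((k : L) : G))]
  have hmnt : ∀ ψ, m ψ ≠ 0 → ψ ≠ oneG G → dec (ψ : G → ℂ) (oneK x L : K x L → ℂ) (0 : ZMod p) = 0 := by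
    intro ψ hψ hψ1
    by_contra hd
    have h1 := dec_one_eq_degree h.hS hM χ (e := e / 2) (by omega)
      (fun φ => ⟨T φ, by have := hsmall φ; omega, fun j hj => by simpa [T] using hj⟩) m hm hψ hd
    exact hk (h.hquasi ψ (by rw [← hF, hmi]; exact_mod_cast hψ) hψ1 (hconst ψ h1 k))
  have hm1 : m (oneG G) = 1 := by
    apply Nat.cast_injective (R := ℂ)
    rw [← hmi, Nat.cast_one, ← Char.classInner_irr_self χ.2]
    simp [classInner, hF]
  have hdecF : ∑ φ : IrrCharacter (K x L), ((T φ).card : ℂ) ^ 2 = 1 := by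
    have hlin : classInner (fun b : K x L => F ((b : L) : G)) (oneK x L : K x L → ℂ) =
        ∑ ψ : IrrCharacter G, (m ψ : ℂ) * dec (ψ : G → ℂ) (oneK x L : K x L → ℂ) (0 : ZMod p) := by
      simp only [dec_eq, h.hS.pw_zero, one_mul, classInner, Finset.mul_sum]
      rw [Finset.sum_comm]
      refine Finset.sum_congr rfl fun b _ => ?_
      rw [congrFun hm ((b : L) : G)]
      simp only [Finset.sum_apply, Pi.smul_apply, smul_eq_mul, Finset.sum_mul, Finset.mul_sum]
      exact Finset.sum_congr rfl fun ψ _ => by ring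
    rw [Finset.sum_eq_single (oneG G) (fun ψ _ hne => ?_) (fun h' => absurd (Finset.mem_univ _) h'), hm1,
      Nat.cast_one, one_mul] at hlin
    swap
    · rcases eq_or_ne (m ψ) 0 with h0 | h0
      · rw [h0, Nat.cast_zero, zero_mul]
      · rw [hmnt ψ h0 hne, mul_zero]
    have hd1 : dec ((oneG G : IrrCharacter G) : G → ℂ) (oneK x L : K x L → ℂ) (0 : ZMod p) = 1 := by
      rw [dec_eq, ← Char.classInner_irr_self (oneK x L).2]
      rfl
    have hfun : (fun b : K x L => (χ : G → ℂ) ((b : L) : G)) =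
        ∑ φ : IrrCharacter (K x L), dec (χ : G → ℂ) (φ : K x L → ℂ) (0 : ZMod p) • (φ : K x L → ℂ) := by
      funext b
      have := apply_eq_sum h.hS (irr_class χ) (0 : ZMod p) b
      rw [h.hS.pw_zero, one_mul] at this
      rw [this, Finset.sum_apply]
      rfl
    have hWF : classInner (fun b : K x L => F ((b : L) : G)) (oneK x L : K x L → ℂ) =
        classInner (fun b : K x L => (χ : G → ℂ) ((b : L) : G)) (fun b : K x L => (χ : G → ℂ) ((b : L) : G)) := by
      simp [classInner, oneK, hF]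
    rw [hWF, hd1, hfun, Char.classInner_sum_left] at hlin
    rw [← hlin]
    refine Finset.sum_congr rfl fun φ _ => ?_
    rw [Char.classInner_smul_left, Char.classInner_sum_right, Finset.sum_eq_single φ (fun φ' _ hne => ?_)
      (fun h' => absurd (Finset.mem_univ _) h'), Char.classInner_smul_right, Char.classInner_irr_self φ.2, mul_one,
      dec_zero_eq h.hS, hsumT, Complex.conj_natCast, pow_two]
    rw [Char.classInner_smul_right, Char.classInner_irr_of_ne φ.2 φ'.2 (fun h' => hne (Subtype.ext h'.symm)), mul_zero]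
  have hdecN : ∑ φ : IrrCharacter (K x L), (T φ).card ^ 2 = 1 := by exact_mod_cast hdecF
  have := Finset.sum_le_sum (s := (Finset.univ : Finset (IrrCharacter (K x L))))
    (fun φ _ => Nat.le_self_pow (n := 2) two_ne_zero (T φ).card)
  omega

/-- The elements commuting with `x`. -/
theorem commute_decomp {g : G} (hg : Commute x g) :
    ∃ (i : ZMod p), ∃ z ∈ Subgroup.center G, g = pw x i * z := by
  obtain ⟨i, k, hk⟩ := h.hS.decomp hg
  exact ⟨i, _, K_le_center h k, hk⟩

end Cfsg.Agent.HalfDegree
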