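/-
A faithful character of degree `(p - 1) / 2`: the centre, the normalizer and the twisted character
(namespace `Cfsg.Agent.HalfDegree`).

Main results: `center_regular`, `eq_of_order_p`, `card_centralizer`, `apply_eq_zero`, `exists_twist`.
-/
import Cfsg.Agent.Lib.HalfDegree.Values
import Cfsg.Agent.Lib.BrauerFewSylow.Block
import Cfsg.Agent.Lib.GaloisPow.Twist

set_option autoImplicit false
set_option linter.unusedSectionVars false
set_option linter.style.haveILetI false

open scoped ComplexConjugate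

namespace Cfsg.Agent.HalfDegree

open Cfsg Cfsg.Agent.Blocks Cfsg.Agent.CyclicDefect Cfsg.Agent.BrauerFewSylow

variable {G : Type*} [Group G] [Finite G] {p : ℕ} [Fact p.Prime] {x : G} {L : Subgroup G} {e : ℕ}
  {χ : IrrCharacter G}
variable (h : Hyp p x L e χ)
include h

theorem pw_center_iff {i : ZMod p} : pw x i ∈ Subgroup.center G ↔ i = 0 := by
  refine ⟨fun hc => by_contra fun hi => ?_, fun hi => by rw [hi, h.hS.pw_zero]; exact Subgroup.one_mem _⟩
  have hall : ∀ g : G, Commute x g := fun g =>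
    (h.hS.commute_pw_iff hi).mp ((Subgroup.mem_center_iff.mp hc g).symm)
  have htop : (CyclicDefect.alpha h.hS).range = ⊥ := by
    rw [MonoidHom.range_eq_bot_iff, ← MonoidHom.ker_eq_top_iff, ker_alpha h.hS, Subgroup.eq_top_iff']
    exact fun l => mem_K.mpr (hall l)
  have h1 := h.hrange
  rw [htop, Subgroup.card_bot] at h1
  have := h.he
  omega

/-- The centre has order prime to `p`. -/
theorem center_regular {z : G} (hz : z ∈ Subgroup.center G) : ¬ p ∣ orderOf z := by
  have hc : Commute x z := Subgroup.mem_center_iff.mp hz x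
  obtain ⟨i, k, hk⟩ := h.hS.decomp hc
  have hi : pw x i ∈ Subgroup.center G := by
    rw [show pw x i = z * (((k : L) : G))⁻¹ by rw [hk, mul_inv_cancel_right]]
    exact Subgroup.mul_mem _ hz (Subgroup.inv_mem _ (K_le_center h k))
  rw [hk, (pw_center_iff h).mp hi, h.hS.pw_zero, one_mul]
  exact h.hS.regular_K k

theorem not_dvd_card_center : ¬ p ∣ Nat.card (Subgroup.center G) := fun hd => by
  obtain ⟨z, hz⟩ := exists_prime_orderOf_dvd_card' p hd
  exact center_regular h z.2 (by rw [Subgroup.orderOf_coe, hz])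

theorem regular_mul_center {z g : G} (hz : z ∈ Subgroup.center G) (hg : ¬ p ∣ orderOf g) :
    ¬ p ∣ orderOf (z * g) := fun hd => by
  have hc : Commute z g := (Subgroup.mem_center_iff.mp hz g).symm
  rcases h.hS.hp.dvd_mul.mp ((hd.trans hc.orderOf_mul_dvd_lcm).trans (Nat.lcm_dvd_mul _ _)) with h1 | h1
  · exact center_regular h hz h1
  · exact hg h1

/-- Elements of order dividing `p` are determined modulo the centre. -/
theorem eq_of_order_p {a b z : G} (ha : a ^ p = 1) (hb : b ^ p = 1) (hz : z ∈ Subgroup.center G) (hab : a = b * z) :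
    a = b ∧ z = 1 := by
  have hc : Commute b z := Subgroup.mem_center_iff.mp hz b
  have h1 : z ^ p = 1 := by
    rw [hab, hc.mul_pow, hb, one_mul] at ha
    exact ha
  have h2 : z = 1 := by
    rcases (Nat.dvd_prime h.hS.hp).mp (orderOf_dvd_of_pow_eq_one h1) with h3 | h3
    · exact orderOf_eq_one_iff.mp h3
    · exact absurd (dvd_of_eq h3.symm) (center_regular h hz)
  exact ⟨by rw [hab, h2, mul_one], h2⟩

theorem pw_pow_p (i : ZMod p) : pw x i ^ p = 1 := by
  rw [h.hS.pw_pow, ZMod.natCast_self, zero_mul, h.hS.pw_zero]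

theorem pw_mul_center_inj {i j : ZMod p} {y z : G} (hy : y ∈ Subgroup.center G) (hz : z ∈ Subgroup.center G)
    (hij : pw x i * y = pw x j * z) : i = j ∧ y = z := by
  have h1 := eq_of_order_p h (pw_pow_p h i) (pw_pow_p h j) (Subgroup.mul_mem _ hz (Subgroup.inv_mem _ hy))
    (show pw x i = pw x j * (z * y⁻¹) by rw [← mul_assoc, ← hij, mul_inv_cancel_right])
  exact ⟨h.hS.pw_inj h1.1, (mul_inv_eq_one.mp h1.2).symm⟩

theorem card_centralizer {u : ZMod p} (hu : u ≠ 0) :
    Nat.card (Subgroup.centralizer ({pw x u} : Set G)) = p * Nat.card (Subgroup.center G) := by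
  have hmem : ∀ iz : ZMod p × Subgroup.center G, pw x iz.1 * (iz.2 : G) ∈ Subgroup.centralizer ({pw x u} : Set G) := by
    intro iz
    rw [Subgroup.mem_centralizer_singleton_iff]
    refine (Commute.mul_left ?_ ?_).eq
    · show Commute (pw x iz.1) (pw x u)
      rw [commute_iff_eq, ← h.hS.pw_add, ← h.hS.pw_add, add_comm]
    · exact (Subgroup.mem_center_iff.mp iz.2.2 (pw x u)).symm
  rw [show p * Nat.card (Subgroup.center G) = Nat.card (ZMod p × Subgroup.center G) by rw [Nat.card_prod, Nat.card_zmod]]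
  refine (Nat.card_eq_of_bijective (fun iz => (⟨_, hmem iz⟩ : Subgroup.centralizer ({pw x u} : Set G))) ⟨?_, ?_⟩).symm
  · intro a b hab
    obtain ⟨h1, h2⟩ := pw_mul_center_inj h a.2.2 b.2.2 (congrArg Subtype.val hab)
    exact Prod.ext h1 (Subtype.ext h2)
  · intro g
    have hg : Commute x (g : G) := (h.hS.commute_pw_iff hu).mp (Subgroup.mem_centralizer_singleton_iff.mp g.2).symm
    obtain ⟨i, z, hz, hgz⟩ := commute_decomp h hg
    exact ⟨(i, ⟨z, hz⟩), Subtype.ext hgz.symm⟩

/-- The character vanishes on the normalizer outside the centralizer. -/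
theorem apply_eq_zero {n : G} (hn : n ∈ Nr x) (hnx : ¬ Commute x n) : (χ : G → ℂ) n = 0 := by
  classical
  have := Fintype.ofFinite (Nr x)
  have := Fintype.ofFinite (IrrCharacter (Nr x))
  have := Fintype.ofFinite (K x L)
  have he := h.he
  have hp0 : (p : ℂ) ≠ 0 := Nat.cast_ne_zero.mpr h.hS.hp.ne_zero
  obtain ⟨w, hw, hw1⟩ := exists_central χ
  have hχN := Char.IsCharacter.comp_hom (Char.IsIrrCharacter.isCharacter χ.2) (Nr x).subtype
  obtain ⟨m, hm, -⟩ := Char.IsCharacter.decompose hχN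
  let xi : ZMod p → Nr x := fun i => ⟨pw x i, Subgroup.le_normalizer (h.hS.pw_mem i)⟩
  -- no constituent has fixed points
  have hfix : ∀ θ : IrrCharacter (Nr x), ∃ k : ℕ, ∑ i : ZMod p, (θ : Nr x → ℂ) (xi i) = (p : ℂ) * k := by
    intro θ
    let f : Multiplicative (ZMod p) →* Nr x :=
      { toFun := fun i => xi i.toAdd
        map_one' := Subtype.ext h.hS.pw_zero
        map_mul' := fun a b => Subtype.ext (h.hS.pw_add _ _) }
    obtain ⟨k, hk⟩ := exists_nat_sum (Char.IsCharacter.comp_hom (Char.IsIrrCharacter.isCharacter θ.2) f)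
    refine ⟨k, ?_⟩
    rw [show Nat.card (Multiplicative (ZMod p)) = p from Nat.card_zmod p] at hk
    rw [← hk]
    exact Fintype.sum_equiv Multiplicative.ofAdd _ _ fun i => rfl
  choose k hk using hfix
  have hzero : ∀ θ : IrrCharacter (Nr x), m θ ≠ 0 → k θ = 0 := by
    intro θ hθ
    have h1 : ∑ θ : IrrCharacter (Nr x), (m θ : ℂ) * ((p : ℂ) * k θ) = (p : ℂ) * (mu h 0 : ℂ) := by
      rw [← sum_zeta_apply h]
      simp only [mul_zero, neg_zero, ζ_zero, one_mul, ← hk, Finset.mul_sum]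
      rw [Finset.sum_comm]
      refine Finset.sum_congr rfl fun i _ => ?_
      have := congrFun hm (xi i)
      simp only [Finset.sum_apply, Pi.smul_apply, smul_eq_mul] at this
      exact this.symm
    rw [mu_zero h, Nat.cast_zero, mul_zero] at h1
    have h2 : ∑ θ : IrrCharacter (Nr x), m θ * (p * k θ) = 0 := by exact_mod_cast h1
    have h3 := Finset.sum_eq_zero_iff.mp h2 θ (Finset.mem_univ _)
    simpa [hθ, h.hS.hp.ne_zero] using h3
  have hdvd : ∀ θ : IrrCharacter (Nr x), m θ ≠ 0 → e ≤ charDegree (θ : Nr x → ℂ) := by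
    intro θ hθ
    obtain ⟨-, -, hidx, s, hs, -⟩ := mu_indicator h
    have hinv : ∀ a ∈ Sq h, ∀ u : (ZMod p)ˣ, (θ : Nr x → ℂ) (xi ((a * u : (ZMod p)ˣ) : ZMod p)) = (θ : Nr x → ℂ) (xi (u : ZMod p)) := by
      rintro a ⟨l, rfl⟩ u
      have he' : xi ((CyclicDefect.alpha h.hS l * u : (ZMod p)ˣ) : ZMod p) =
          (⟨(l : G), h.hS.hL l.2⟩ : Nr x) * xi (u : ZMod p) * (⟨(l : G), h.hS.hL l.2⟩ : Nr x)⁻¹ := by
        refine Subtype.ext ?_
        show pw x _ = (l : G) * pw x _ * (l : G)⁻¹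
        rw [Units.val_mul, alpha_spec h.hS]
      rw [he']
      exact irr_class θ (xi (u : ZMod p)) _
    have h1 := CyclicDefect.sum_units (p := p) (fun j => if j = 0 then 0 else (θ : Nr x → ℂ) (xi j)) (if_pos rfl)
    simp only [Units.ne_zero, if_false] at h1
    rw [sum_index_two (Sq h) hidx hs _ hinv, card_Sq h, nsmul_eq_mul, Units.val_one,
      ← Finset.add_sum_erase _ _ (Finset.mem_univ (0 : ZMod p)), if_pos rfl, zero_add,
      Finset.sum_congr rfl (g := fun j => (θ : Nr x → ℂ) (xi j)) (fun j hj => if_neg (Finset.ne_of_mem_erase hj))] at h1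
    have h2 := hk θ
    rw [hzero θ hθ, Nat.cast_zero, mul_zero, ← Finset.add_sum_erase _ _ (Finset.mem_univ (0 : ZMod p))] at h2
    rw [show xi 0 = 1 from Subtype.ext h.hS.pw_zero, ← charDegree_cast] at h2
    have hint : IsIntegral ℤ (((charDegree (θ : Nr x → ℂ) : ℕ) : ℂ) / (e : ℂ)) := by
      rw [show ((charDegree (θ : Nr x → ℂ) : ℕ) : ℂ) / (e : ℂ) =
        -((θ : Nr x → ℂ) (xi 1) + (θ : Nr x → ℂ) (xi (s : ZMod p))) from ?_]
      · exact ((Char.IsCharacter.isIntegral (Char.IsIrrCharacter.isCharacter θ.2) _).add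
          (Char.IsCharacter.isIntegral (Char.IsIrrCharacter.isCharacter θ.2) _)).neg
      · rw [div_eq_iff (Nat.cast_ne_zero.mpr (by omega))]
        linear_combination h1 + h2
    refine Nat.le_of_dvd (Nat.pos_of_ne_zero fun h0 => irr_one_ne_zero θ ?_)
      (Char.nat_dvd_of_isIntegral_div (by omega) hint)
    rw [← charDegree_cast, h0, Nat.cast_zero]
  have hdeg : ∑ θ : IrrCharacter (Nr x), m θ * charDegree (θ : Nr x → ℂ) = e := by
    have h1 := congrFun hm 1
    simp only [Finset.sum_apply, Pi.smul_apply, smul_eq_mul, OneMemClass.coe_one, Subgroup.coe_subtype,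
      ← charDegree_cast, h.hdeg] at h1
    exact_mod_cast h1.symm
  have hirr : ∑ θ : IrrCharacter (Nr x), (m θ : ℂ) * m θ = 1 := by
    obtain ⟨θ₀, -, hθ₀⟩ := Finset.exists_ne_zero_of_sum_ne_zero (by rw [hdeg]; omega)
    have hθ₀' : m θ₀ ≠ 0 := fun h0 => hθ₀ (by rw [h0, zero_mul])
    have h1 := Nat.mul_le_mul (Nat.one_le_iff_ne_zero.mpr hθ₀') (hdvd θ₀ hθ₀')
    have h2 := Finset.add_sum_erase Finset.univ (fun θ => m θ * charDegree (θ : Nr x → ℂ)) (Finset.mem_univ θ₀)
    simp only [hdeg] at h2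
    have hm1 : m θ₀ = 1 := by
      by_contra hne
      have := Nat.mul_le_mul (show 2 ≤ m θ₀ by omega) (hdvd θ₀ hθ₀')
      omega
    have h3 : ∀ θ, θ ≠ θ₀ → m θ = 0 := by
      intro θ hne
      have h4 := Finset.sum_eq_zero_iff.mp (show ∑ θ ∈ Finset.univ.erase θ₀, m θ * charDegree (θ : Nr x → ℂ) = 0 by omega)
        θ (Finset.mem_erase.mpr ⟨hne, Finset.mem_univ _⟩)
      rcases Nat.mul_eq_zero.mp h4 with h5 | h5
      · exact h5
      · exact absurd (by rw [← charDegree_cast, h5, Nat.cast_zero]) (irr_one_ne_zero θ)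
    rw [Finset.sum_eq_single θ₀ (fun θ _ hne => by rw [h3 θ hne]; simp) (fun h' => absurd (Finset.mem_univ _) h'), hm1]
    norm_num
  -- the sum of the squares over the normalizer
  set S : Nr x → ℂ := fun g => (χ : G → ℂ) (g : G) * conj ((χ : G → ℂ) (g : G)) with hSdef
  have htot : ∑ g : Nr x, S g = (Nat.card (Nr x) : ℂ) := by
    have h1 : classInner ((χ : G → ℂ) ∘ (Nr x).subtype) ((χ : G → ℂ) ∘ (Nr x).subtype) = 1 := by
      rw [show ((χ : G → ℂ) ∘ (Nr x).subtype) = ∑ θ : IrrCharacter (Nr x), (m θ : ℂ) • (θ : Nr x → ℂ) from hm,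
        Char.classInner_sum_left, ← hirr]
      refine Finset.sum_congr rfl fun θ _ => ?_
      rw [Char.classInner_smul_left, Char.classInner_sum_right, Finset.sum_eq_single θ (fun θ' _ hne => ?_)
        (fun h' => absurd (Finset.mem_univ _) h'), Char.classInner_smul_right, Char.classInner_irr_self θ.2,
        Complex.conj_natCast, mul_one]
      rw [Char.classInner_smul_right, Char.classInner_irr_of_ne θ.2 θ'.2 (fun h' => hne (Subtype.ext h'.symm)), mul_zero]
    rw [classInner, inv_mul_eq_iff_eq_mul₀ (Nat.cast_ne_zero.mpr Nat.card_pos.ne'), mul_one] at h1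
    exact h1
  let Φ : ZMod p × K x L → Nr x := fun ik =>
    ⟨pw x ik.1 * ((ik.2 : L) : G), Subgroup.mul_mem _ (Subgroup.le_normalizer (h.hS.pw_mem ik.1)) (h.hS.hL ik.2.1.2)⟩
  have hΦ : Function.Injective Φ := fun a b hab => by
    obtain ⟨h1, h2⟩ := h.hS.decomp_unique (congrArg Subtype.val hab)
    exact Prod.ext h1 h2
  have hin : ∑ g ∈ Finset.univ.image Φ, S g = (Nat.card (Nr x) : ℂ) := by
    have hval : ∀ ik : ZMod p × K x L, S (Φ ik) = (χ : G → ℂ) (pw x ik.1) * conj ((χ : G → ℂ) (pw x ik.1)) := by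
      intro ik
      have hz := K_le_center h ik.2
      have h1 : (Φ ik : G) = ((ik.2 : L) : G) * pw x ik.1 := (h.hS.commute_pw ik.1 (h.hS.commute_K ik.2)).eq
      rw [hSdef]
      simp only [h1, hw ⟨_, hz⟩, map_mul]
      linear_combination ((χ : G → ℂ) (pw x ik.1) * conj ((χ : G → ℂ) (pw x ik.1))) * hw1 ⟨_, hz⟩
    rw [Finset.sum_image (fun a _ b _ hab => hΦ hab), Finset.sum_congr rfl (fun ik _ => hval ik), Fintype.sum_prod_type]
    simp only [Finset.sum_const, Finset.card_univ, nsmul_eq_mul, ← Finset.mul_sum]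
    rw [norm_sum h, ← Nat.card_eq_fintype_card,
      show Nat.card (Nr x) = p * Nat.card L from h.hS.card_normalizer, ← (K x L).card_mul_index,
      ← ker_alpha h.hS, Subgroup.index_ker, card_Sq h, ker_alpha h.hS]
    push_cast
    ring
  have hre : ∀ g, (S g).re = ‖(χ : G → ℂ) (g : G)‖ ^ 2 := fun g => by
    rw [hSdef]
    simp only [Complex.mul_conj']
    norm_cast
  have hout : (⟨n, hn⟩ : Nr x) ∉ Finset.univ.image Φ := by
    rw [Finset.mem_image]
    rintro ⟨ik, -, hik⟩
    refine hnx ?_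
    rw [show n = pw x ik.1 * ((ik.2 : L) : G) from (congrArg Subtype.val hik).symm]
    exact (h.hS.commute_pw ik.1 (Commute.refl x)).symm.mul_right (h.hS.commute_K ik.2)
  have h0 : ∑ g ∈ (Finset.univ.image Φ)ᶜ, S g = 0 := by
    have := Finset.sum_add_sum_compl (Finset.univ.image Φ) S
    rw [hin, htot] at this
    linear_combination this
  have h1 := congrArg Complex.re h0
  rw [Complex.re_sum, Complex.zero_re, Finset.sum_congr rfl (fun g _ => hre g)] at h1
  have h2 := (Finset.sum_eq_zero_iff_of_nonneg fun g _ => sq_nonneg _).mp h1 ⟨n, hn⟩ (Finset.mem_compl.mpr hout)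
  simpa using h2

/-- The Galois twist moving `x` to the other class. -/
theorem exists_twist (s : (ZMod p)ˣ) :
    ∃ χ' : IrrCharacter G, charDegree (χ' : G → ℂ) = e ∧
      (∀ g : G, ¬ p ∣ orderOf g → (χ' : G → ℂ) g = (χ : G → ℂ) g) ∧
      (∀ i : ZMod p, (χ' : G → ℂ) (pw x i) = (χ : G → ℂ) (pw x ((s : ZMod p) * i))) ∧
      ∀ (z : Subgroup.center G) (g : G), ∀ w : ℂ, (∀ a : G, (χ : G → ℂ) ((z : G) * a) = w * (χ : G → ℂ) a) →
        (χ' : G → ℂ) ((z : G) * g) = w * (χ' : G → ℂ) g := by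
  have hp := h.hS.hp
  obtain ⟨m, hm⟩ : p ∣ Nat.card G := by
    have := orderOf_dvd_natCard x
    rwa [h.hS.hx] at this
  have hcop : p.Coprime m := hp.coprime_iff_not_dvd.mpr fun h1 => h.hS.hsq (by
    rw [hm, pow_two]; exact Nat.mul_dvd_mul_left p h1)
  obtain ⟨k, hk1, hk2⟩ := Nat.chineseRemainder hcop (s : ZMod p).val 1
  have hksp : (k : ZMod p) = (s : ZMod p) := by
    rw [(ZMod.natCast_eq_natCast_iff k _ p).mpr hk1, ZMod.natCast_zmod_val]
  have hkcard : k.Coprime (Nat.card G) := by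
    rw [hm]
    refine Nat.Coprime.mul_right ?_ ?_
    · refine (hp.coprime_iff_not_dvd.mpr fun h1 => ?_).symm
      rw [(CharP.cast_eq_zero_iff (ZMod p) p k).mpr h1] at hksp
      exact Units.ne_zero s hksp.symm
    · rw [Nat.Coprime, Nat.gcd_comm, Nat.gcd_rec, hk2, ← Nat.gcd_rec, Nat.gcd_one_right]
  have hreg : ∀ g : G, ¬ p ∣ orderOf g → g ^ k = g := by
    intro g hg
    have hd : orderOf g ∣ m := by
      have := orderOf_dvd_natCard g
      rw [hm] at this
      exact (hp.coprime_iff_not_dvd.mpr hg).symm.dvd_of_dvd_mul_left this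
    conv_rhs => rw [← pow_one g]
    exact pow_eq_pow_iff_modEq.mpr (hk2.of_dvd hd)
  refine ⟨GaloisPow.powIrr hkcard χ, ?_, fun g hg => by rw [GaloisPow.powIrr_apply, hreg g hg], fun i => ?_,
    fun z g w hzw => ?_⟩
  · apply Nat.cast_injective (R := ℂ)
    rw [charDegree_cast, GaloisPow.powIrr_apply, one_pow, ← charDegree_cast, h.hdeg]
  · rw [GaloisPow.powIrr_apply, h.hS.pw_pow, hksp]
  · rw [GaloisPow.powIrr_apply, GaloisPow.powIrr_apply,
      (show Commute (z : G) g from (Subgroup.mem_center_iff.mp z.2 g).symm).mul_pow, hreg _ (center_regular h z.2), hzw]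

end Cfsg.Agent.HalfDegree
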