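/-
A faithful character of degree `(p - 1) / 2`: the quotient by the centre
(namespace `Cfsg.Agent.HalfDegree`).

Main results: `exists_core`, `exists_quotient_block` (the principal block of `G ⧸ Z(G)`).
-/
import Cfsg.Agent.Lib.HalfDegree.Normalizer
import Cfsg.Agent.Lib.HalfDegree.Block

set_option autoImplicit false
set_option linter.unusedSectionVars false
set_option linter.style.haveILetI false

open scoped ComplexConjugate

namespace Cfsg.Agent.HalfDegree

open Cfsg Cfsg.Agent.Blocks Cfsg.Agent.CyclicDefect Cfsg.Agent.BrauerFewSylow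

variable {G : Type*} [Group G] [Finite G] {p : ℕ} [Fact p.Prime] {x : G} {L : Subgroup G} {e : ℕ}
  {χ : IrrCharacter G}

/-- The projection to the quotient by the centre. -/
abbrev bar (G : Type*) [Group G] : G →* G ⧸ Subgroup.center G := QuotientGroup.mk' _

theorem pw_bar (x : G) (i : ZMod p) : pw (bar G x) i = bar G (pw x i) := (map_pow (bar G) x i.val).symm

theorem bar_eq_one_iff (g : G) : bar G g = 1 ↔ g ∈ Subgroup.center G := QuotientGroup.eq_one_iff g

theorem bar_eq_iff {a b : G} : bar G a = bar G b ↔ ∃ z ∈ Subgroup.center G, a = b * z := by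
  constructor
  · intro h
    refine ⟨b⁻¹ * a, (bar_eq_one_iff _).mp (by rw [map_mul, map_inv, h, inv_mul_cancel]), by rw [mul_inv_cancel_left]⟩
  · rintro ⟨z, hz, rfl⟩
    rw [map_mul, (bar_eq_one_iff z).mpr hz, mul_one]

variable (h : Hyp p x L e χ)
include h

theorem orderOf_bar : orderOf (bar G x) = p := by
  refine orderOf_eq_prime (by rw [← map_pow, h.hS.pow_eq_one, map_one]) fun hb => ?_
  have h1 := (bar_eq_one_iff x).mp hb
  rw [← h.hS.pw_one, pw_center_iff h] at h1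
  exact one_ne_zero h1

theorem regular_bar {g : G} (hg : ¬ p ∣ orderOf g) : ¬ p ∣ orderOf (bar G g) :=
  fun hd => hg (hd.trans (orderOf_map_dvd _ g))

theorem regular_lift {g : G} (hg : ¬ p ∣ orderOf (bar G g)) : ¬ p ∣ orderOf g := by
  intro hd
  set n := orderOf (bar G g)
  have hz : g ^ n ∈ Subgroup.center G := (bar_eq_one_iff _).mp (by rw [map_pow, pow_orderOf_eq_one])
  have h1 : g ^ (n * Nat.card (Subgroup.center G)) = 1 := by
    rw [pow_mul]
    exact congrArg Subtype.val (pow_card_eq_one' (x := (⟨g ^ n, hz⟩ : Subgroup.center G)))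
  rcases h.hS.hp.dvd_mul.mp (hd.trans (orderOf_dvd_of_pow_eq_one h1)) with h2 | h2
  · exact hg h2
  · exact not_dvd_card_center h h2

theorem conj_lift {g : G} {u : ZMod p} (hg : bar G g * bar G x * (bar G g)⁻¹ = pw (bar G x) u) :
    g * x * g⁻¹ = pw x u := by
  rw [pw_bar, ← map_inv, ← map_mul, ← map_mul, bar_eq_iff] at hg
  obtain ⟨z, hz, hgz⟩ := hg
  exact (eq_of_order_p h (by rw [conj_pow, h.hS.pow_eq_one, mul_one, mul_inv_cancel]) (pw_pow_p h u) hz hgz).1

theorem mem_Nr_of_conj {g : G} {u : ZMod p} (hg : g * x * g⁻¹ = pw x u) : g ∈ Nr x := by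
  refine Subgroup.mem_normalizer_fintype fun a ha => ?_
  obtain ⟨i, rfl⟩ := h.hS.exists_pw ha
  rw [h.hS.conj_pw hg]
  exact h.hS.pw_mem _

theorem alpha_mem_of_conj {g : G} {u : (ZMod p)ˣ} (hg : g * x * g⁻¹ = pw x (u : ZMod p)) : u ∈ Sq h := by
  obtain ⟨a, ha, l, hl, hal⟩ := h.hS.hgen g (mem_Nr_of_conj h hg)
  obtain ⟨i, rfl⟩ := h.hS.exists_pw ha
  refine ⟨⟨l, hl⟩, Units.ext (h.hS.pw_inj ?_)⟩
  rw [← hg, ← mul_one (CyclicDefect.alpha h.hS ⟨l, hl⟩ : ZMod p), ← alpha_spec h.hS ⟨l, hl⟩ 1, h.hS.pw_one, hal]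
  show l * x * l⁻¹ = pw x i * l * x * (pw x i * l)⁻¹
  rw [mul_inv_rev, ← mul_assoc, show pw x i * l * x * l⁻¹ * (pw x i)⁻¹ = pw x i * (l * x * l⁻¹) * (pw x i)⁻¹ by group,
    alphaVal_spec h.hS ⟨l, hl⟩,
    (show Commute (pw x i) (pw x (alphaVal h.hS ⟨l, hl⟩)) from h.hS.commute_pw i ((Commute.refl x).pow_right _)).eq,
    mul_inv_cancel_right]

theorem not_sq_bar : ¬ p ^ 2 ∣ Nat.card (G ⧸ Subgroup.center G) :=
  fun hd => h.hS.hsq (hd.trans (Subgroup.card_quotient_dvd_card _))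

theorem card_bar : Nat.card G = Nat.card (G ⧸ Subgroup.center G) * Nat.card (Subgroup.center G) :=
  Subgroup.card_eq_card_quotient_mul_card_subgroup _

/-- The setting of the quotient. -/
theorem exists_core (hperf : commutator (G ⧸ Subgroup.center G) = ⊤) :
    ∃ L' : Subgroup (G ⧸ Subgroup.center G), ∃ hc : Core p (bar G x) L' e 2,
      (CyclicDefect.alpha hc.hS).range = Sq h ∧
      ∀ g : G, bar G g ∈ L' → bar G g ≠ 1 → (χ : G → ℂ) g = 0 := by
  have hpe := h.hpe
  have he := h.he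
  obtain ⟨L', hS'⟩ := CyclicDefect.exists_setting h.hS.hp (orderOf_bar h) (not_sq_bar h)
  have hcomm : ∀ {g : G}, Commute (bar G x) (bar G g) → bar G g ∈ Subgroup.zpowers (bar G x) := by
    intro g hg
    have h1 : g * x * g⁻¹ = pw x 1 := conj_lift h (by rw [← hg.eq, hS'.pw_one, mul_inv_cancel_right])
    rw [h.hS.pw_one, mul_inv_eq_iff_eq_mul] at h1
    obtain ⟨i, z, hz, rfl⟩ := commute_decomp h (Commute.symm h1)
    rw [map_mul, (bar_eq_one_iff z).mpr hz, mul_one, ← pw_bar]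
    exact hS'.pw_mem i
  have hKtriv : ∀ l : L', Commute (bar G x) (l : G ⧸ Subgroup.center G) → l = 1 := by
    intro l hl
    obtain ⟨g, hg⟩ := QuotientGroup.mk'_surjective (Subgroup.center G) (l : G ⧸ Subgroup.center G)
    rw [← hg] at hl
    have hm := hcomm hl
    rw [hg] at hm
    obtain ⟨i, hi⟩ := hS'.exists_pw hm
    have hreg := hS'.regular_L l
    rw [hi] at hreg
    have hi0 : i = 0 := by
      by_contra hne
      exact hreg (hS'.orderOf_pw hne).symm.dvd
    exact Subtype.ext (by rw [hi, hi0, hS'.pw_zero]; rfl)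
  have hK : Subsingleton (K (bar G x) L') :=
    ⟨fun a b => Subtype.ext ((hKtriv a.1 (mem_K.mp a.2)).trans (hKtriv b.1 (mem_K.mp b.2)).symm)⟩
  have hrange : (CyclicDefect.alpha hS').range = Sq h := by
    ext u
    constructor
    · rintro ⟨l, rfl⟩
      obtain ⟨g, hg⟩ := QuotientGroup.mk'_surjective (Subgroup.center G) (l : G ⧸ Subgroup.center G)
      refine alpha_mem_of_conj h (g := g) (conj_lift h ?_)
      rw [show bar G g = (l : G ⧸ Subgroup.center G) from hg,
        ← mul_one (CyclicDefect.alpha hS' l : ZMod p), ← alpha_spec hS' l 1, hS'.pw_one]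
    · rintro ⟨l, rfl⟩
      have hconj : bar G (l : G) * bar G x * (bar G (l : G))⁻¹ =
          pw (bar G x) (CyclicDefect.alpha h.hS l : ZMod p) := by
        rw [← map_inv, ← map_mul, ← map_mul, pw_bar]
        refine congrArg _ ?_
        conv_lhs => rw [← h.hS.pw_one, alpha_spec h.hS l 1, mul_one]
      have hN : bar G (l : G) ∈ Subgroup.normalizer (Subgroup.zpowers (bar G x) : Set (G ⧸ Subgroup.center G)) := by
        refine Subgroup.mem_normalizer_fintype fun a ha => ?_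
        obtain ⟨i, rfl⟩ := hS'.exists_pw ha
        rw [hS'.conj_pw hconj]
        exact hS'.pw_mem _
      obtain ⟨a, ha, l', hl', hal⟩ := hS'.hgen _ hN
      obtain ⟨i, rfl⟩ := hS'.exists_pw ha
      refine ⟨⟨l', hl'⟩, Units.ext (hS'.pw_inj ?_)⟩
      rw [← hconj, ← mul_one (CyclicDefect.alpha hS' ⟨l', hl'⟩ : ZMod p), ← alpha_spec hS' ⟨l', hl'⟩ 1, hS'.pw_one, hal]
      show l' * bar G x * l'⁻¹ = pw (bar G x) i * l' * bar G x * (pw (bar G x) i * l')⁻¹
      rw [mul_inv_rev, ← mul_assoc,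
        show pw (bar G x) i * l' * bar G x * l'⁻¹ * (pw (bar G x) i)⁻¹ =
          pw (bar G x) i * (l' * bar G x * l'⁻¹) * (pw (bar G x) i)⁻¹ by group,
        alphaVal_spec hS' ⟨l', hl'⟩,
        (show Commute (pw (bar G x) i) (pw (bar G x) (alphaVal hS' ⟨l', hl'⟩)) from
          hS'.commute_pw i ((Commute.refl (bar G x)).pow_right _)).eq,
        mul_inv_cancel_right]
  have hcard : Nat.card L' = e := by
    have hinj : Function.Injective (CyclicDefect.alpha hS') := by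
      rw [← MonoidHom.ker_eq_bot_iff, ker_alpha hS', Subgroup.eq_bot_iff_forall]
      exact fun a ha => hKtriv a (mem_K.mp ha)
    rw [← card_Sq h, ← hrange]
    exact Nat.card_congr (MonoidHom.ofInjective hinj).toEquiv
  refine ⟨L', ⟨hS', hK, by omega, hcard, by omega, fun ψ hψ => linear_trivial hperf ψ hψ⟩, hrange, ?_⟩
  intro g hg hg1
  obtain ⟨u, hu⟩ := hS'.exists_alpha ⟨bar G g, hg⟩
  refine apply_eq_zero h (mem_Nr_of_conj h (conj_lift h hu)) fun hc => hg1 ?_
  exact congrArg Subtype.val (hKtriv ⟨bar G g, hg⟩ (hc.map (bar G)))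

open scoped Classical in
/-- The principal block of the quotient. -/
theorem exists_quotient_block {L' : Subgroup (G ⧸ Subgroup.center G)} (hc : Core p (bar G x) L' e 2)
    (hvan : ∀ g : G, bar G g ∈ L' → bar G g ≠ 1 → (χ : G → ℂ) g = 0)
    {M : Ideal AlgInt} (d : Data hc M) [Fintype (IrrCharacter (G ⧸ Subgroup.center G))] :
    ∃ (f : G ⧸ Subgroup.center G → ℂ) (c₀ : (ZMod p)ˣ ⧸ U hc.hS (oneK (bar G x) L' : K (bar G x) L' → ℂ)),
      IsCharacter (G ⧸ Subgroup.center G) f ∧ (∀ g, f (bar G g) = (χ : G → ℂ) g * conj ((χ : G → ℂ) g)) ∧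
      (∀ ψ ∈ Plus hc d, charDegree (ψ : G ⧸ Subgroup.center G → ℂ) = p + 1) ∧
      (∀ ψ ∈ Minus hc d, charDegree (ψ : G ⧸ Subgroup.center G → ℂ) + 1 = p) ∧
      (e + 1) ∣ Nat.card (G ⧸ Subgroup.center G) ∧
      ((d.ε = 1 ∧ charDegree (d.exc c₀ : G ⧸ Subgroup.center G → ℂ) = e ∧
          ∀ a, ¬ p ∣ orderOf a → ∑ ψ ∈ Plus hc d, (ψ : G ⧸ Subgroup.center G → ℂ) a = f a - 1 ∧
            ∑ ψ ∈ Minus hc d, (ψ : G ⧸ Subgroup.center G → ℂ) a = f a - (d.exc c₀ : G ⧸ Subgroup.center G → ℂ) a) ∨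
        (d.ε = -1 ∧ charDegree (d.exc c₀ : G ⧸ Subgroup.center G → ℂ) = e + 1 ∧
          ∀ a, ¬ p ∣ orderOf a → ∑ ψ ∈ Plus hc d, (ψ : G ⧸ Subgroup.center G → ℂ) a =
              f a - 1 - (d.exc c₀ : G ⧸ Subgroup.center G → ℂ) a ∧
            ∑ ψ ∈ Minus hc d, (ψ : G ⧸ Subgroup.center G → ℂ) a = f a)) := by
  have := Fintype.ofFinite G
  have := Fintype.ofFinite (G ⧸ Subgroup.center G)
  have := Fintype.ofFinite ((ZMod p)ˣ ⧸ U hc.hS (oneK (bar G x) L' : K (bar G x) L' → ℂ))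
  obtain ⟨-, -, -, s, hs, -⟩ := mu_indicator h
  obtain ⟨χ', hdeg', hreg', hpw', hcent'⟩ := exists_twist h s
  obtain ⟨w, hw, hw1⟩ := exists_central χ
  have hw' : ∀ (z : Subgroup.center G) (g : G), (χ' : G → ℂ) ((z : G) * g) = w z * (χ' : G → ℂ) g :=
    fun z g => hcent' z g (w z) (hw z)
  have hχc := Char.IsIrrCharacter.isCharacter χ.2
  have hχc' := Char.IsIrrCharacter.isCharacter χ'.2
  -- descending a product
  have hdesc : ∀ α β : IrrCharacter G, (∀ (z : Subgroup.center G) (g : G), (α : G → ℂ) ((z : G) * g) = w z * (α : G → ℂ) g) →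
      (∀ (z : Subgroup.center G) (g : G), (β : G → ℂ) ((z : G) * g) = w z * (β : G → ℂ) g) →
      ∃ F : G ⧸ Subgroup.center G → ℂ, IsCharacter _ F ∧ ∀ g, F (bar G g) = (α : G → ℂ) g * conj ((β : G → ℂ) g) := by
    intro α β hα hβ
    refine exists_descend (bar G) (QuotientGroup.mk'_surjective _)
      (Char.IsCharacter.mul (Char.IsIrrCharacter.isCharacter α.2) (Char.IsCharacter.conj (Char.IsIrrCharacter.isCharacter β.2)))
      fun z hz => ?_
    have hz' := (bar_eq_one_iff z).mp hz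
    have h1 := hα ⟨z, hz'⟩ 1
    have h2 := hβ ⟨z, hz'⟩ 1
    simp only [mul_one] at h1 h2
    show (α : G → ℂ) z * conj ((β : G → ℂ) z) = (α : G → ℂ) 1 * conj ((β : G → ℂ) 1)
    rw [h1, h2, map_mul]
    linear_combination ((α : G → ℂ) 1 * conj ((β : G → ℂ) 1)) * hw1 ⟨z, hz'⟩
  obtain ⟨f, hfc, hf⟩ := hdesc χ χ hw hw
  obtain ⟨g, hgc, hg⟩ := hdesc χ' χ' hw' hw'
  obtain ⟨F, hFc, hF⟩ := hdesc χ χ' hw hw'
  have hsurj := QuotientGroup.mk'_surjective (Subgroup.center G)
  have hone : ∀ (α : IrrCharacter G) (v : G ⧸ Subgroup.center G → ℂ),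
      (∀ a, v (bar G a) = (α : G → ℂ) a * conj ((α : G → ℂ) a)) →
      classInner v ((oneG (G ⧸ Subgroup.center G) : IrrCharacter _) : G ⧸ Subgroup.center G → ℂ) = 1 := by
    intro α v hv
    rw [← Char.classInner_irr_self α.2, classInner, classInner]
    simp only [Pi.one_apply, map_one, mul_one, ← hv]
    have h1 : ∑ a : G, v (bar G a) = (Nat.card (Subgroup.center G) : ℂ) * ∑ q, v q := by
      rw [← Finset.sum_fiberwise Finset.univ (bar G) (fun a => v (bar G a)), Finset.mul_sum]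
      refine Finset.sum_congr rfl fun q _ => ?_
      rw [Finset.sum_congr rfl (g := fun _ => v q) (fun a ha => by rw [(Finset.mem_filter.mp ha).2]),
        Finset.sum_const, nsmul_eq_mul]
      obtain ⟨a₀, ha₀⟩ := hsurj q
      congr 2
      rw [← Fintype.card_subtype, ← Nat.card_eq_fintype_card]
      refine Nat.card_congr
        { toFun := fun a => ⟨a₀⁻¹ * a.1, (bar_eq_one_iff _).mp (by
            rw [map_mul, map_inv, a.2, show bar G a₀ = q from ha₀, inv_mul_cancel])⟩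
          invFun := fun z => ⟨a₀ * z.1, by rw [map_mul, (bar_eq_one_iff _).mpr z.2, mul_one]; exact ha₀⟩
          left_inv := fun a => Subtype.ext (mul_inv_cancel_left _ _)
          right_inv := fun z => Subtype.ext (inv_mul_cancel_left _ _) }
    have hQ : (Nat.card (G ⧸ Subgroup.center G) : ℂ) ≠ 0 := Nat.cast_ne_zero.mpr Nat.card_pos.ne'
    have hZ : (Nat.card (Subgroup.center G) : ℂ) ≠ 0 := Nat.cast_ne_zero.mpr Nat.card_pos.ne'
    rw [h1, card_bar h, Nat.cast_mul]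
    field_simp
  have hdeg1 : ∀ (α β : IrrCharacter G) (v : G ⧸ Subgroup.center G → ℂ), charDegree (α : G → ℂ) = e →
      charDegree (β : G → ℂ) = e → (∀ a, v (bar G a) = (α : G → ℂ) a * conj ((β : G → ℂ) a)) → v 1 = (e : ℂ) ^ 2 := by
    intro α β v hα hβ hv
    rw [← map_one (bar G), hv, ← charDegree_cast, ← charDegree_cast, hα, hβ, Complex.conj_natCast, pow_two]
  have hsum_f : ∑ i : ZMod p, f (pw (bar G x) i) = (p : ℂ) * e := by
    simp only [pw_bar, hf]; exact norm_sum h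
  have hsum_g : ∑ i : ZMod p, g (pw (bar G x) i) = (p : ℂ) * e := by
    simp only [pw_bar, hg, hpw']
    rw [← norm_sum h]
    exact Fintype.sum_equiv (Equiv.mulLeft₀ (s : ZMod p) (Units.ne_zero s)) _ _ fun i => rfl
  have hsum_F : ∑ i : ZMod p, F (pw (bar G x) i) = 0 := by
    simp only [pw_bar, hF, hpw']
    have := congrArg conj (mixed_sum h hs)
    rw [map_sum, map_zero] at this
    rw [← this]
    exact Finset.sum_congr rfl fun i _ => by rw [map_mul, Complex.conj_conj, mul_comm]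
  have hL : ∀ (α : IrrCharacter G) (v : G ⧸ Subgroup.center G → ℂ),
      (∀ a, ¬ p ∣ orderOf a → (α : G → ℂ) a = (χ : G → ℂ) a) →
      (∀ a, v (bar G a) = (α : G → ℂ) a * conj ((α : G → ℂ) a)) → ∀ l : L', l ≠ 1 → v l = 0 := by
    intro α v hα hv l hl
    obtain ⟨a, ha⟩ := hsurj (l : G ⧸ Subgroup.center G)
    have ha' : bar G a = (l : G ⧸ Subgroup.center G) := ha
    have hreg : ¬ p ∣ orderOf a := regular_lift h (by rw [ha']; exact hc.hS.regular_L l)
    rw [← ha', hv, hα a hreg, hvan a (by rw [ha']; exact l.2) (by rw [ha']; exact fun h1 => hl (Subtype.ext h1)), zero_mul]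
  obtain ⟨c₀, hP, hMi, hdvd, hcases⟩ := block_values hc d h.he hfc hgc hFc (hdeg1 χ χ f h.hdeg h.hdeg hf)
    (hdeg1 χ' χ' g hdeg' hdeg' hg) (hdeg1 χ χ' F h.hdeg hdeg' hF) hsum_f hsum_g hsum_F (hone χ f hf) (hone χ' g hg)
    (hL χ f (fun _ _ => rfl) hf) (hL χ' g hreg' hg) (fun q => by
      obtain ⟨a, rfl⟩ := hsurj q
      rw [hF, hf, hg, map_mul, map_mul, Complex.conj_conj]
      ring)
    (fun q hq => by
      obtain ⟨a, rfl⟩ := hsurj q
      rw [hF, hf, hreg' a (regular_lift h hq)])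
  exact ⟨f, c₀, hfc, hf, hP, hMi, hdvd, hcases⟩

end Cfsg.Agent.HalfDegree
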