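/-
A faithful character of degree `(p - 1) / 2`: the inequality between class multiplication coefficients
(namespace `Cfsg.Agent.HalfDegree`).

Main results: `total_value` (the sum of four coefficients in the quotient), `signed_value` (the alternating
sum against the central character), `norm_bound`.
-/
import Cfsg.Agent.Lib.HalfDegree.Quotient
import Cfsg.Agent.Lib.BrauerTuan.General

set_option autoImplicit false
set_option linter.unusedSectionVars false
set_option linter.style.haveILetI false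

open scoped ComplexConjugate

namespace Cfsg.Agent.HalfDegree

open Cfsg Cfsg.Agent.Blocks Cfsg.Agent.CyclicDefect Cfsg.Agent.BrauerFewSylow Cfsg.Agent.BrauerTuan

/-- The number of pairs of conjugates of `a` and `b` with product `c`. -/
noncomputable def pairs {G : Type*} [Group G] (a b c : G) : ℕ :=
  Nat.card {q : G × G // IsConj a q.1 ∧ IsConj b q.2 ∧ q.1 * q.2 = c}

section Quot

variable {Q : Type*} [Group Q] [Finite Q] {p : ℕ} [Fact p.Prime] {x : Q} {L : Subgroup Q} {e : ℕ}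
  (h : Core p x L e 2) {s : (ZMod p)ˣ} (hs : s ∉ (CyclicDefect.alpha h.hS).range)
include h hs

theorem pair_value (ψ : IrrCharacter Q) :
    (e : ℂ) * ((ψ : Q → ℂ) x + (ψ : Q → ℂ) (pw x (s : ZMod p))) = (excess h ψ : ℂ) := by
  classical
  have hcard : Nat.card (CyclicDefect.alpha h.hS).range = e := by
    rw [← Nat.card_congr (MonoidHom.ofInjective (BrauerFewSylow.alpha_injective h)).toEquiv, h.he]
  have hidx : (CyclicDefect.alpha h.hS).range.index = 2 := by
    have h1 := (CyclicDefect.alpha h.hS).range.card_mul_index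
    rw [hcard, Nat.card_eq_fintype_card (α := (ZMod p)ˣ), ZMod.card_units, ← h.hte, mul_comm 2 e] at h1
    exact Nat.eq_of_mul_eq_mul_left (e_pos h) h1
  have h1 := CyclicDefect.sum_units (p := p) (fun j => if j = 0 then 0 else (ψ : Q → ℂ) (pw x j)) (if_pos rfl)
  simp only [Units.ne_zero, if_false] at h1
  rw [sum_index_two _ hidx hs (fun u => (ψ : Q → ℂ) (pw x (u : ZMod p))) (by
      rintro a ⟨l, rfl⟩ u
      rw [Units.val_mul, ← alpha_spec h.hS]
      exact irr_class ψ _ _), hcard, nsmul_eq_mul, Units.val_one, h.hS.pw_one] at h1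
  have h2 := sum_apply_pw h ψ
  rw [← Finset.add_sum_erase _ _ (Finset.mem_univ (0 : ZMod p)), h.hS.pw_zero, ← charDegree_cast] at h2
  rw [h1, ← Finset.add_sum_erase _ _ (Finset.mem_univ (0 : ZMod p)), if_pos rfl, zero_add,
    Finset.sum_congr rfl (g := fun j => (ψ : Q → ℂ) (pw x j)) (fun j hj => if_neg (Finset.ne_of_mem_erase hj)), excess]
  push_cast
  linear_combination h2

variable {M : Ideal AlgInt} (d : Data h M) [Fintype (IrrCharacter Q)]
  [Fintype ((ZMod p)ˣ ⧸ U h.hS (oneK x L : K x L → ℂ))]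
include d

open scoped Classical in
/-- The sum of the four coefficients. -/
theorem total_value {a : Q} (ha : ¬ p ∣ orderOf a) (c₀ : (ZMod p)ˣ ⧸ U h.hS (oneK x L : K x L → ℂ))
    (hP : ∀ ψ ∈ Plus h d, charDegree (ψ : Q → ℂ) = p + 1) (hM : ∀ ψ ∈ Minus h d, charDegree (ψ : Q → ℂ) + 1 = p)
    {r : ℂ} (hr : conj r = r)
    (hcases : (d.ε = 1 ∧ charDegree (d.exc c₀ : Q → ℂ) = e ∧
        ∑ ψ ∈ Plus h d, (ψ : Q → ℂ) a = r - 1 ∧
          ∑ ψ ∈ Minus h d, (ψ : Q → ℂ) a = r - (d.exc c₀ : Q → ℂ) a) ∨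
      (d.ε = -1 ∧ charDegree (d.exc c₀ : Q → ℂ) = e + 1 ∧
        ∑ ψ ∈ Plus h d, (ψ : Q → ℂ) a = r - 1 - (d.exc c₀ : Q → ℂ) a ∧
          ∑ ψ ∈ Minus h d, (ψ : Q → ℂ) a = r)) :
    ((pairs x x a + pairs x (pw x (s : ZMod p)) a + pairs (pw x (s : ZMod p)) x a +
        pairs (pw x (s : ZMod p)) (pw x (s : ZMod p)) a : ℕ) : ℂ) * (p : ℂ) ^ 2 * ((e : ℂ) * (e + 1)) =
      (Nat.card Q : ℂ) * (2 * (p : ℂ) * (e + r)) := by
  have := Fintype.ofFinite Q
  have he := e_pos h
  have hte := h.hte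
  have hp1 := h.hS.hp.one_le
  have hcent : ∀ u : ZMod p, u ≠ 0 → Nat.card (Subgroup.centralizer ({pw x u} : Set Q)) = p := by
    intro u hu
    rw [show Subgroup.centralizer ({pw x u} : Set Q) = Subgroup.zpowers x from le_antisymm
      (fun g hg => BrauerTuan.centralizer_x h ((h.hS.commute_pw_iff hu).mp
        (Subgroup.mem_centralizer_singleton_iff.mp hg).symm))
      (Subgroup.zpowers_le.mpr (Subgroup.mem_centralizer_singleton_iff.mpr
        (h.hS.commute_pw u (Commute.refl x)).symm)), Nat.card_zpowers, h.hS.hx]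
  have hcx : Nat.card (Subgroup.centralizer ({x} : Set Q)) = p := by
    have := hcent 1 one_ne_zero
    rwa [h.hS.pw_one] at this
  have hcy := hcent (s : ZMod p) (Units.ne_zero s)
  set y := pw x (s : ZMod p)
  set S := ∑ ψ : IrrCharacter Q, ((ψ : Q → ℂ) x + (ψ : Q → ℂ) y) ^ 2 * conj ((ψ : Q → ℂ) a) / (ψ : Q → ℂ) 1 with hSdef
  have hsum : ((pairs x x a + pairs x y a + pairs y x a + pairs y y a : ℕ) : ℂ) * (p : ℂ) ^ 2 = (Nat.card Q : ℂ) * S := by
    have h1 := class_mult x x a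
    have h2 := class_mult x y a
    have h3 := class_mult y x a
    have h4 := class_mult y y a
    rw [hcx] at h1 h2 h3
    rw [hcy] at h2 h3 h4
    simp only [pairs, Nat.cast_add]
    rw [show S = ∑ ψ : IrrCharacter Q, (ψ : Q → ℂ) x * (ψ : Q → ℂ) x * conj ((ψ : Q → ℂ) a) / (ψ : Q → ℂ) 1 +
        ∑ ψ : IrrCharacter Q, (ψ : Q → ℂ) x * (ψ : Q → ℂ) y * conj ((ψ : Q → ℂ) a) / (ψ : Q → ℂ) 1 +
        ∑ ψ : IrrCharacter Q, (ψ : Q → ℂ) y * (ψ : Q → ℂ) x * conj ((ψ : Q → ℂ) a) / (ψ : Q → ℂ) 1 +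
        ∑ ψ : IrrCharacter Q, (ψ : Q → ℂ) y * (ψ : Q → ℂ) y * conj ((ψ : Q → ℂ) a) / (ψ : Q → ℂ) 1 from by
      simp only [hSdef, ← Finset.sum_add_distrib]
      exact Finset.sum_congr rfl fun ψ _ => by ring]
    linear_combination h1 + h2 + h3 + h4
  rw [hsum, mul_assoc]
  congr 1
  have hV : ∀ ψ : IrrCharacter Q, (ψ : Q → ℂ) x + (ψ : Q → ℂ) y = (excess h ψ : ℂ) / e := fun ψ => by
    rw [eq_div_iff (Nat.cast_ne_zero.mpr (by omega)), ← pair_value h hs ψ]
    ring
  have he0 : (e : ℂ) ≠ 0 := Nat.cast_ne_zero.mpr (by omega)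
  have hp1' : ((p - 1 : ℕ) : ℂ) = 2 * (e : ℂ) := by
    rw [← hte]; push_cast; ring
  have hpC : (p : ℂ) = 2 * (e : ℂ) + 1 := by
    rw [show p = 2 * e + 1 by omega]; push_cast; ring
  have he1 : (e : ℂ) + 1 ≠ 0 := by exact_mod_cast (show e + 1 ≠ 0 by omega)
  rw [hSdef, sum_split h d]
  simp only [hV]
  simp only [Pi.one_apply, map_one, div_one, mul_one]
  rw [
    Finset.sum_congr rfl (g := fun ψ : IrrCharacter Q => 2 / ((e : ℂ) + 1) * conj ((ψ : Q → ℂ) a)) (fun ψ hψ => by
      obtain ⟨hB, hr', -, hδ⟩ := (mem_Plus h d).mp hψ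
      rw [excess_cst h d hB hr', hδ, ← charDegree_cast, hP ψ hψ]
      push_cast
      rw [hp1', hpC, show (2 : ℂ) * e + 1 + 1 = 2 * ((e : ℂ) + 1) by ring]
      field_simp),
    Finset.sum_congr (s₁ := Minus h d) rfl (g := fun ψ : IrrCharacter Q => 2 / (e : ℂ) * conj ((ψ : Q → ℂ) a)) (fun ψ hψ => by
      obtain ⟨hB, hr', -, hδ⟩ := (mem_Minus h d).mp hψ
      rw [excess_cst h d hB hr', hδ, ← charDegree_cast, show charDegree (ψ : Q → ℂ) = p - 1 by have := hM ψ hψ; omega]
      push_cast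
      rw [hp1']
      field_simp),
    Finset.sum_congr (s₁ := (Finset.univ : Finset ((ZMod p)ˣ ⧸ U h.hS (oneK x L : K x L → ℂ)))) rfl
      (g := fun _ => conj ((d.exc c₀ : Q → ℂ) a) / (charDegree (d.exc c₀ : Q → ℂ) : ℂ)) (fun c _ => by
      rw [excess_exc h d c, exc_agree h d c c₀ ha, ← charDegree_cast, exc_deg_eq h d c c₀]
      rcases d.hε with hε | hε <;> rw [hε] <;> push_cast <;> field_simp),
    Finset.sum_eq_zero (s := Finset.univ.filter _) (fun ψ hψ => by
      rw [excess_out h d (Finset.mem_filter.mp hψ).2]; simp),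
    Finset.sum_const, Finset.card_univ,
    show Fintype.card ((ZMod p)ˣ ⧸ U h.hS (oneK x L : K x L → ℂ)) = 2 by rw [← Nat.card_eq_fintype_card, card_T h],
    ← Finset.mul_sum, ← Finset.mul_sum, ← map_sum, ← map_sum]
  rcases hcases with ⟨-, hD, h5, h6⟩ | ⟨-, hD, h5, h6⟩ <;> rw [h5, h6, hD] <;>
    simp only [map_one, map_sub, hr, nsmul_eq_mul] <;> push_cast <;> rw [hpC] <;> field_simp <;> ring

end Quot

variable {G : Type*} [Group G] [Finite G] {p : ℕ} [Fact p.Prime] {x : G} {L : Subgroup G} {e : ℕ}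
  {χ : IrrCharacter G}
variable (h : Hyp p x L e χ)
include h

theorem pow_p_of_isConj {a b : G} (ha : a ^ p = 1) (hab : IsConj a b) : b ^ p = 1 := by
  obtain ⟨c, rfl⟩ := isConj_iff.mp hab
  rw [conj_pow, ha, mul_one, mul_inv_cancel]

/-- The coefficients in the quotient are sums over the centre. -/
theorem sum_pairs [Fintype (Subgroup.center G)] {a b : G} (ha : a ^ p = 1) (hb : b ^ p = 1) (c : G) :
    ∑ z : Subgroup.center G, pairs a b (c * (z : G)) = pairs (bar G a) (bar G b) (bar G c) := by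
  rw [pairs]
  simp only [pairs]
  rw [← Nat.card_sigma]
  have hsurj := QuotientGroup.mk'_surjective (Subgroup.center G)
  refine Nat.card_eq_of_bijective
    (fun q => ⟨(bar G q.2.1.1, bar G q.2.1.2), (bar G).map_isConj q.2.2.1, (bar G).map_isConj q.2.2.2.1, by
      rw [← map_mul, q.2.2.2.2, map_mul, (bar_eq_one_iff _).mpr q.1.2, mul_one]⟩) ⟨?_, ?_⟩
  · rintro ⟨z, ⟨u, v⟩, hu, hv, huv⟩ ⟨z', ⟨u', v'⟩, hu', hv', huv'⟩ heq
    have heq' := congrArg Subtype.val heq
    obtain ⟨zu, hzu, hzu'⟩ := bar_eq_iff.mp (congrArg Prod.fst heq')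
    obtain ⟨zv, hzv, hzv'⟩ := bar_eq_iff.mp (congrArg Prod.snd heq')
    obtain rfl := (eq_of_order_p h (pow_p_of_isConj h ha hu) (pow_p_of_isConj h ha hu') hzu hzu').1
    obtain rfl := (eq_of_order_p h (pow_p_of_isConj h hb hv) (pow_p_of_isConj h hb hv') hzv hzv').1
    obtain rfl : z = z' := Subtype.ext (mul_left_cancel (huv.symm.trans huv'))
    rfl
  · rintro ⟨⟨u, v⟩, hu, hv, huv⟩
    obtain ⟨cu, hcu⟩ := isConj_iff.mp hu
    obtain ⟨cv, hcv⟩ := isConj_iff.mp hv
    obtain ⟨cu', hcu'⟩ := hsurj cu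
    obtain ⟨cv', hcv'⟩ := hsurj cv
    have h1 : bar G (cu' * a * cu'⁻¹) = u := by rw [map_mul, map_mul, map_inv, show bar G cu' = cu from hcu']; exact hcu
    have h2 : bar G (cv' * b * cv'⁻¹) = v := by rw [map_mul, map_mul, map_inv, show bar G cv' = cv from hcv']; exact hcv
    obtain ⟨z, hz, hprod⟩ := bar_eq_iff.mp (show bar G ((cu' * a * cu'⁻¹) * (cv' * b * cv'⁻¹)) = bar G c by
      rw [map_mul, h1, h2]; exact huv)
    exact ⟨⟨⟨z, hz⟩, (cu' * a * cu'⁻¹, cv' * b * cv'⁻¹), isConj_iff.mpr ⟨cu', rfl⟩, isConj_iff.mpr ⟨cv', rfl⟩, hprod⟩,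
      Subtype.ext (Prod.ext h1 h2)⟩

set_option maxHeartbeats 800000 in
open scoped Classical in
/-- The alternating sum of the coefficients against the central character. -/
theorem signed_value [Fintype (Subgroup.center G)] [Fintype (IrrCharacter G)] {w : Subgroup.center G →* ℂ}
    (hw : ∀ (z : Subgroup.center G) (g : G), (χ : G → ℂ) ((z : G) * g) = w z * (χ : G → ℂ) g)
    (hw1 : ∀ z, w z * conj (w z) = 1) {s : (ZMod p)ˣ} (hs : s ∉ Sq h) {g : G} (hg : ¬ p ∣ orderOf g) :
    ((p : ℂ) * Nat.card (Subgroup.center G)) ^ 2 * ∑ z : Subgroup.center G, w z *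
      ((pairs x x (g * (z : G)) : ℂ) - pairs x (pw x (s : ZMod p)) (g * (z : G)) -
        pairs (pw x (s : ZMod p)) x (g * (z : G)) + pairs (pw x (s : ZMod p)) (pw x (s : ZMod p)) (g * (z : G))) =
      (Nat.card G : ℂ) * (Nat.card (Subgroup.center G)) *
        (2 * ((χ : G → ℂ) x - (χ : G → ℂ) (pw x (s : ZMod p))) ^ 2 * conj ((χ : G → ℂ) g) / (e : ℂ)) := by
  have hp0 : (p : ℂ) ≠ 0 := Nat.cast_ne_zero.mpr h.hS.hp.ne_zero
  have he := h.he
  set y := pw x (s : ZMod p) with hy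
  set C := (p : ℂ) * Nat.card (Subgroup.center G) with hC
  have hcx : Nat.card (Subgroup.centralizer ({x} : Set G)) = p * Nat.card (Subgroup.center G) := by
    have := card_centralizer h (u := 1) one_ne_zero
    rwa [h.hS.pw_one] at this
  have hcy : Nat.card (Subgroup.centralizer ({y} : Set G)) = p * Nat.card (Subgroup.center G) :=
    card_centralizer h (Units.ne_zero s)
  choose ω hω hω1 using exists_central (G := G)
  let D : IrrCharacter G → ℂ := fun ψ => (ψ : G → ℂ) x - (ψ : G → ℂ) y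
  let W : IrrCharacter G → ℂ := fun ψ => ∑ z : Subgroup.center G, w z * conj (ω ψ z)
  have hWcases : ∀ ψ, W ψ = 0 ∨ (W ψ = Nat.card (Subgroup.center G) ∧ ∀ z, w z * conj (ω ψ z) = 1) := by
    intro ψ
    by_cases hall : ∀ z, w z * conj (ω ψ z) = 1
    · right
      refine ⟨?_, hall⟩
      simp only [W, hall, Finset.sum_const, Finset.card_univ, nsmul_eq_mul, mul_one, Nat.card_eq_fintype_card]
    · left
      push Not at hall
      obtain ⟨z₀, hz₀⟩ := hall
      have h1 : w z₀ * conj (ω ψ z₀) * W ψ = W ψ := by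
        simp only [W, Finset.mul_sum]
        refine Fintype.sum_equiv (Equiv.mulLeft z₀) _ _ fun z => ?_
        show _ = w (z₀ * z) * conj (ω ψ (z₀ * z))
        rw [map_mul, map_mul, map_mul]
        ring
      have h2 : (w z₀ * conj (ω ψ z₀) - 1) * W ψ = 0 := by linear_combination h1
      exact (mul_eq_zero.mp h2).resolve_left (sub_ne_zero.mpr hz₀)
  -- the projected orthogonality
  have horth : ∑ ψ : IrrCharacter G, D ψ * conj (D ψ) * W ψ = 2 * C := by
    have hnc : ∀ (z : Subgroup.center G), ¬ IsConj x ((z : G) * y) ∧ ¬ IsConj y ((z : G) * x) := by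
      have hxy : ∀ z : Subgroup.center G, ¬ IsConj x ((z : G) * y) := by
        intro z hcon
        have h1 := eq_of_order_p h (pow_p_of_isConj h h.hS.pow_eq_one hcon) (pw_pow_p h (s : ZMod p)) z.2
          (Subgroup.mem_center_iff.mp z.2 y).symm
        rw [h1.1] at hcon
        obtain ⟨c, hc⟩ := isConj_iff.mp hcon
        have h2 := norm_diff h hs
        rw [show (χ : G → ℂ) (pw x (s : ZMod p)) = (χ : G → ℂ) x by rw [← hc]; exact irr_class χ x c, sub_self,
          zero_mul] at h2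
        exact hp0 h2.symm
      intro z
      refine ⟨hxy z, fun hcon => ?_⟩
      have h1 := eq_of_order_p h (pow_p_of_isConj h (pw_pow_p h (s : ZMod p)) hcon) h.hS.pow_eq_one z.2
        (Subgroup.mem_center_iff.mp z.2 x).symm
      rw [h1.1] at hcon
      exact hxy 1 (by rw [OneMemClass.coe_one, one_mul]; exact hcon.symm)
    have hself : ∀ (a : G) (z : Subgroup.center G), a ^ p = 1 → (IsConj a ((z : G) * a) ↔ z = 1) := by
      intro a z ha
      refine ⟨fun hcon => Subtype.ext (eq_of_order_p h (pow_p_of_isConj h ha hcon) ha z.2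
        (Subgroup.mem_center_iff.mp z.2 a).symm).2, fun hz => ?_⟩
      rw [hz, OneMemClass.coe_one, one_mul]
    have h1 : ∀ z : Subgroup.center G, ∑ ψ : IrrCharacter G, D ψ * conj ((ψ : G → ℂ) ((z : G) * x) - (ψ : G → ℂ) ((z : G) * y)) =
        if z = 1 then 2 * C else 0 := by
      intro z
      have ha := Char.column_orth x ((z : G) * x)
      have hb := Char.column_orth x ((z : G) * y)
      have hc := Char.column_orth y ((z : G) * x)
      have hd := Char.column_orth y ((z : G) * y)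
      rw [if_neg (hnc z).1] at hb
      rw [if_neg (hnc z).2] at hc
      rw [hcx] at ha
      rw [hcy] at hd
      rw [if_congr (hself x z h.hS.pow_eq_one) rfl rfl] at ha
      rw [if_congr (hself y z (pw_pow_p h _)) rfl rfl] at hd
      simp only [D, map_sub, sub_mul, mul_sub, Finset.sum_sub_distrib, ha, hb, hc, hd, hC]
      split_ifs
      · push_cast; ring
      · ring
    have h2 : ∑ z : Subgroup.center G, w z * (if z = 1 then 2 * C else 0) = 2 * C := by
      rw [Finset.sum_eq_single (1 : Subgroup.center G) (fun z _ hz => by rw [if_neg hz, mul_zero])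
        (fun h' => absurd (Finset.mem_univ _) h'), if_pos rfl, map_one, one_mul]
    rw [← h2]
    simp only [← h1]
    simp only [W, Finset.mul_sum]
    rw [Finset.sum_comm]
    refine Finset.sum_congr rfl fun z _ => Finset.sum_congr rfl fun ψ _ => ?_
    rw [hω ψ z x, hω ψ z y]
    simp only [D, map_sub, map_mul]
    ring
  -- only `χ` and its twist contribute
  obtain ⟨χ', hdeg', hreg', hpw', hcent'⟩ := exists_twist h s
  have hωχ : ∀ ψ : IrrCharacter G, (∀ (z : Subgroup.center G) (a : G), (ψ : G → ℂ) ((z : G) * a) = w z * (ψ : G → ℂ) a) →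
      W ψ = Nat.card (Subgroup.center G) := by
    intro ψ hψ
    refine ((hWcases ψ).resolve_left ?_).1
    intro h0
    have h1 : ∀ z, w z * conj (ω ψ z) = 1 := fun z => by
      have h2 := (hψ z 1).symm.trans (hω ψ z 1)
      rw [mul_left_inj' (irr_one_ne_zero ψ)] at h2
      rw [← h2]
      exact hw1 z
    simp only [W, h1, Finset.sum_const, Finset.card_univ, nsmul_eq_mul, mul_one, Nat.cast_eq_zero] at h0
    exact Fintype.card_ne_zero h0
  have hDχ : D χ * conj (D χ) = (p : ℂ) := norm_diff h hs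
  have hD' : D χ' = -D χ := by
    have hsq : s * s ∈ Sq h := (Subgroup.mul_mem_iff_of_index_two (index_Sq h)).mpr Iff.rfl
    have h1 := apply_smul h hsq 1
    rw [Units.val_mul, mul_one, h.hS.pw_one] at h1
    have h2 : (χ' : G → ℂ) x = (χ : G → ℂ) y := by
      have := hpw' 1
      rwa [h.hS.pw_one, mul_one] at this
    simp only [D, h2, hy, hpw', h1]
    ring
  have hne : χ ≠ χ' := fun e' => by
    rw [← e'] at hD'
    have : D χ = 0 := by linear_combination hD' / 2
    rw [this, zero_mul] at hDχ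
    exact hp0 hDχ.symm
  have hWχ := hωχ χ hw
  have hWχ' := hωχ χ' fun z a => hcent' z a (w z) (hw z)
  have hothers : ∀ ψ, ψ ≠ χ → ψ ≠ χ' → D ψ = 0 ∨ W ψ = 0 := by
    intro ψ h1 h2
    have hnn : ∀ φ : IrrCharacter G, 0 ≤ (D φ * conj (D φ) * W φ).re := by
      intro φ
      rcases hWcases φ with h3 | ⟨h3, -⟩ <;> rw [h3]
      · simp
      · rw [Complex.mul_conj, ← Complex.ofReal_natCast, ← Complex.ofReal_mul, Complex.ofReal_re]
        exact mul_nonneg (Complex.normSq_nonneg _) (Nat.cast_nonneg _)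
    have h4 := congrArg Complex.re horth
    rw [Complex.re_sum, ← Finset.sum_sdiff (Finset.subset_univ {χ, χ'}), Finset.sum_pair hne] at h4
    rw [hD', map_neg, neg_mul_neg, hWχ, hWχ', hDχ, ← hC] at h4
    have h5 : ∑ φ ∈ Finset.univ \ {χ, χ'}, (D φ * conj (D φ) * W φ).re = 0 := by
      have h7 : (2 * C).re = C.re + C.re := by rw [two_mul, Complex.add_re]
      linarith
    have h6 := (Finset.sum_eq_zero_iff_of_nonneg fun φ _ => hnn φ).mp h5 ψ (by simp [h1, h2])
    rcases hWcases ψ with h3 | ⟨h3, -⟩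
    · exact Or.inr h3
    · left
      rw [h3, Complex.mul_conj, ← Complex.ofReal_natCast, ← Complex.ofReal_mul, Complex.ofReal_re] at h6
      exact Complex.normSq_eq_zero.mp ((mul_eq_zero.mp h6).resolve_right (Nat.cast_ne_zero.mpr Nat.card_pos.ne'))
  -- the expansion
  have hexp : ∀ z : Subgroup.center G, C ^ 2 * ((pairs x x (g * (z : G)) : ℂ) - pairs x y (g * (z : G)) -
        pairs y x (g * (z : G)) + pairs y y (g * (z : G))) =
      (Nat.card G : ℂ) * ∑ ψ : IrrCharacter G, D ψ ^ 2 * conj ((ψ : G → ℂ) g) / (ψ : G → ℂ) 1 * conj (ω ψ z) := by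
    intro z
    have h1 := class_mult x x (g * (z : G))
    have h2 := class_mult x y (g * (z : G))
    have h3 := class_mult y x (g * (z : G))
    have h4 := class_mult y y (g * (z : G))
    rw [hcx] at h1 h2 h3
    rw [hcy] at h2 h3 h4
    push_cast at h1 h2 h3 h4
    rw [Finset.sum_congr rfl (g := fun ψ : IrrCharacter G =>
      (ψ : G → ℂ) x * (ψ : G → ℂ) x * conj ((ψ : G → ℂ) (g * (z : G))) / (ψ : G → ℂ) 1 -
        (ψ : G → ℂ) x * (ψ : G → ℂ) y * conj ((ψ : G → ℂ) (g * (z : G))) / (ψ : G → ℂ) 1 -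
        (ψ : G → ℂ) y * (ψ : G → ℂ) x * conj ((ψ : G → ℂ) (g * (z : G))) / (ψ : G → ℂ) 1 +
        (ψ : G → ℂ) y * (ψ : G → ℂ) y * conj ((ψ : G → ℂ) (g * (z : G))) / (ψ : G → ℂ) 1) (fun ψ _ => by
      rw [Subgroup.mem_center_iff.mp z.2 g, hω ψ z g]
      simp only [D, map_mul]
      ring)]
    simp only [Finset.sum_add_distrib, Finset.sum_sub_distrib, pairs, hC]
    linear_combination h1 - h2 - h3 + h4
  rw [Finset.mul_sum, Finset.sum_congr rfl (fun z _ => show C ^ 2 * (w z * _) = w z * ((Nat.card G : ℂ) *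
    ∑ ψ : IrrCharacter G, D ψ ^ 2 * conj ((ψ : G → ℂ) g) / (ψ : G → ℂ) 1 * conj (ω ψ z)) by
      rw [← hexp z]; ring)]
  simp only [Finset.mul_sum]
  rw [Finset.sum_comm, Finset.sum_congr rfl (g := fun ψ : IrrCharacter G =>
    (Nat.card G : ℂ) * (D ψ ^ 2 * conj ((ψ : G → ℂ) g) / (ψ : G → ℂ) 1) * W ψ) (fun ψ _ => by
      simp only [W, Finset.mul_sum]
      exact Finset.sum_congr rfl fun z _ => by ring),
    ← Finset.sum_sdiff (Finset.subset_univ {χ, χ'}), Finset.sum_pair hne,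
    Finset.sum_eq_zero (s := Finset.univ \ {χ, χ'}) (fun ψ hψ => by
      simp only [Finset.mem_sdiff, Finset.mem_univ, true_and, Finset.mem_insert, Finset.mem_singleton, not_or] at hψ
      rcases hothers ψ hψ.1 hψ.2 with h1 | h1 <;> rw [h1] <;> simp), zero_add]
  rw [hD', hWχ, hWχ', hreg' g hg, ← charDegree_cast, ← charDegree_cast, hdeg', h.hdeg]
  simp only [D]
  ring

set_option maxHeartbeats 400000 in
open scoped Classical in
/-- The norm of `χ` at a regular element is at most one or is the degree. -/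
theorem norm_bound {L' : Subgroup (G ⧸ Subgroup.center G)} (hc : Core p (bar G x) L' e 2)
    (hrange : (CyclicDefect.alpha hc.hS).range = Sq h)
    (hvan : ∀ g : G, bar G g ∈ L' → bar G g ≠ 1 → (χ : G → ℂ) g = 0)
    {M : Ideal AlgInt} (d : Data hc M) {g : G} (hg : ¬ p ∣ orderOf g) :
    ‖(χ : G → ℂ) g‖ ≤ 1 ∨ g ∈ Subgroup.center G := by
  have := Fintype.ofFinite (IrrCharacter G)
  have := Fintype.ofFinite (IrrCharacter (G ⧸ Subgroup.center G))
  have := Fintype.ofFinite ((ZMod p)ˣ ⧸ U hc.hS (oneK (bar G x) L' : K (bar G x) L' → ℂ))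
  have := Fintype.ofFinite (Subgroup.center G)
  have he := h.he
  obtain ⟨f, c₀, -, hf, hP, hMi, -, hcases⟩ := exists_quotient_block h hc hvan d
  obtain ⟨-, -, -, s, hs, -⟩ := mu_indicator h
  obtain ⟨w, hw, hw1⟩ := exists_central χ
  set a := (χ : G → ℂ) x - (χ : G → ℂ) (pw x (s : ZMod p)) with ha
  set σ := ‖(χ : G → ℂ) g‖ with hσ
  have hga := regular_bar h hg
  have htot := total_value hc (s := s) (hrange ▸ hs) d hga c₀ hP hMi (r := f (bar G g)) (by
      rw [hf, map_mul, Complex.conj_conj, mul_comm]) (by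
    rcases hcases with ⟨h1, h2, h3⟩ | ⟨h1, h2, h3⟩
    · exact Or.inl ⟨h1, h2, h3 _ hga⟩
    · exact Or.inr ⟨h1, h2, h3 _ hga⟩)
  rw [pw_bar, hf, Complex.mul_conj'] at htot
  set y := pw x (s : ZMod p) with hy
  have hsum := signed_value h hw hw1 hs hg
  have hle : ‖∑ z : Subgroup.center G, w z * ((pairs x x (g * (z : G)) : ℂ) - pairs x y (g * (z : G)) -
        pairs y x (g * (z : G)) + pairs y y (g * (z : G)))‖ ≤
      ((pairs (bar G x) (bar G x) (bar G g) + pairs (bar G x) (bar G y) (bar G g) + pairs (bar G y) (bar G x) (bar G g) +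
        pairs (bar G y) (bar G y) (bar G g) : ℕ) : ℝ) := by
    rw [← sum_pairs h h.hS.pow_eq_one h.hS.pow_eq_one, ← sum_pairs h h.hS.pow_eq_one (pw_pow_p h _),
      ← sum_pairs h (pw_pow_p h _) h.hS.pow_eq_one, ← sum_pairs h (pw_pow_p h _) (pw_pow_p h _),
      ← Finset.sum_add_distrib, ← Finset.sum_add_distrib, ← Finset.sum_add_distrib, Nat.cast_sum]
    refine (norm_sum_le _ _).trans (Finset.sum_le_sum fun z _ => ?_)
    have hwz : ‖w z‖ = 1 := by
      have h1 := congrArg Complex.re (hw1 z)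
      rw [Complex.mul_conj, Complex.ofReal_re, Complex.one_re, ← Complex.sq_norm] at h1
      nlinarith [norm_nonneg (w z)]
    rw [norm_mul, hwz, one_mul]
    push_cast
    refine (norm_add_le _ _).trans (add_le_add ((norm_sub_le _ _).trans (add_le_add ((norm_sub_le _ _).trans ?_) ?_)) ?_) <;>
      simp [hy]
  have hnsum := congrArg norm hsum
  have hna : ‖a ^ 2‖ = (p : ℝ) := by
    have h1 := congrArg norm (norm_diff h hs)
    rw [norm_mul, Complex.norm_conj, Complex.norm_natCast] at h1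
    rw [norm_pow, pow_two]
    exact h1
  simp only [norm_mul, norm_div, norm_pow, Complex.norm_natCast, Complex.norm_two, Complex.norm_conj, ← hσ] at hnsum
  rw [← norm_pow, hna] at hnsum
  generalize hN : pairs (bar G x) (bar G x) (bar G g) + pairs (bar G x) (bar G y) (bar G g) +
    pairs (bar G y) (bar G x) (bar G g) + pairs (bar G y) (bar G y) (bar G g) = N at htot hle
  have htotR : (N : ℝ) * (p : ℝ) ^ 2 * ((e : ℝ) * (e + 1)) =
      (Nat.card (G ⧸ Subgroup.center G) : ℝ) * (2 * (p : ℝ) * (e + σ ^ 2)) := by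
    have := congrArg Complex.re (show (((N : ℝ) * (p : ℝ) ^ 2 * ((e : ℝ) * (e + 1)) : ℝ) : ℂ) =
        (((Nat.card (G ⧸ Subgroup.center G) : ℝ) * (2 * (p : ℝ) * (e + σ ^ 2)) : ℝ) : ℂ) by
      push_cast; exact htot)
    rwa [Complex.ofReal_re, Complex.ofReal_re] at this
  rw [card_bar h, Nat.cast_mul] at hnsum
  have hp0 : (0 : ℝ) < p := Nat.cast_pos.mpr h.hS.hp.pos
  have hZ : (0 : ℝ) < Nat.card (Subgroup.center G) := Nat.cast_pos.mpr Nat.card_pos
  have hQ : (0 : ℝ) < Nat.card (G ⧸ Subgroup.center G) := Nat.cast_pos.mpr Nat.card_pos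
  have he0 : (0 : ℝ) < e := Nat.cast_pos.mpr (by omega)
  generalize ‖∑ z : Subgroup.center G, w z * ((pairs x x (g * (z : G)) : ℂ) - pairs x y (g * (z : G)) -
        pairs y x (g * (z : G)) + pairs y y (g * (z : G)))‖ = T at hle hnsum
  have hkey : σ * (e + 1) ≤ e + σ ^ 2 := by
    have h1 := mul_le_mul_of_nonneg_left hle
      (show (0 : ℝ) ≤ ((p : ℝ) * Nat.card (Subgroup.center G)) ^ 2 * ((e : ℝ) * (e + 1)) by positivity)
    have h2 : ((p : ℝ) * Nat.card (Subgroup.center G)) ^ 2 * ((e : ℝ) * (e + 1)) * T =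
        (Nat.card (G ⧸ Subgroup.center G) : ℝ) * (Nat.card (Subgroup.center G) : ℝ) ^ 2 * (2 * p) * (σ * (e + 1)) := by
      rw [mul_assoc, mul_comm ((e : ℝ) * (e + 1)) T, ← mul_assoc, hnsum]
      field_simp
    have h3 : ((p : ℝ) * Nat.card (Subgroup.center G)) ^ 2 * ((e : ℝ) * (e + 1)) * N =
        (Nat.card (G ⧸ Subgroup.center G) : ℝ) * (Nat.card (Subgroup.center G) : ℝ) ^ 2 * (2 * p) * (e + σ ^ 2) := by
      linear_combination (Nat.card (Subgroup.center G) : ℝ) ^ 2 * htotR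
    rw [h2, h3] at h1
    exact le_of_mul_le_mul_left h1 (by positivity)
  have hσe : σ ≤ e := by
    have := Char.IsCharacter.norm_le (Char.IsIrrCharacter.isCharacter χ.2) g
    rwa [← charDegree_cast, h.hdeg, Complex.natCast_re] at this
  by_cases h1 : σ ≤ 1
  · exact Or.inl h1
  · refine Or.inr (mem_center_of_norm_eq χ h.hfaith (le_antisymm (by rw [h.hdeg]; exact hσe) ?_))
    rw [h.hdeg]
    push Not at h1
    nlinarith

end Cfsg.Agent.HalfDegree
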