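/-
A faithful character of degree `(p - 1) / 2`: the order of the central quotient and its recognition
(namespace `Cfsg.Agent.HalfDegree`).

Main results: `card_dvd`, `psl_of_hyp`.
-/
import Cfsg.Agent.Lib.HalfDegree.Inequality
import Cfsg.Agent.Lib.BrauerFewSylow.Recognition
import Cfsg.Agent.Lib.Linear.GenTools

set_option autoImplicit false
set_option linter.unusedSectionVars false
set_option linter.style.haveILetI false

open scoped ComplexConjugate

namespace Cfsg.Agent.HalfDegree

open Cfsg Cfsg.Agent.Blocks Cfsg.Agent.CyclicDefect Cfsg.Agent.BrauerFewSylow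

/-- A character whose values away from the identity are zero or one forces the order of a `q`-group to divide
`d ^ 2 * (d ^ 2 - 1)`. -/
theorem prime_pow_dvd {Q : Type*} [Group Q] [Finite Q] {f : Q → ℂ} (hf : IsCharacter Q f) {D : ℕ} (hD : 1 ≤ D)
    (hf1 : f 1 = D) {q : ℕ} (hq : q.Prime) (hval : ∀ (k : ℕ) (g : Q), g ^ q ^ k = 1 → g ≠ 1 → f g = 0 ∨ f g = 1)
    (R : Subgroup Q) {k : ℕ} (hR : Nat.card R = q ^ k) : q ^ k ∣ D ∨ q ^ k ∣ D - 1 := by
  classical
  have := Fintype.ofFinite R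
  have hint : ∀ g, (∃ j, g ^ q ^ j = 1) → ∃ a : ℤ, f g = a := by
    rintro g ⟨j, hj⟩
    by_cases hg : g = 1
    · exact ⟨D, by rw [hg, hf1]; norm_num⟩
    · rcases hval j g hj hg with h | h
      · exact ⟨0, by rw [h]; norm_num⟩
      · exact ⟨1, by rw [h]; norm_num⟩
  have hcong : ∀ (g : Q) (a : ℤ), g ∈ R → f g = a → (q : ℤ) ∣ a - D := fun g a hg ha =>
    int_congr_one hq hf hint (by rw [hf1]; norm_num) k g
      (by rw [← hR]; exact congrArg Subtype.val (pow_card_eq_one' (x := (⟨g, hg⟩ : R)))) a ha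
  obtain ⟨n, hn⟩ := exists_nat_sum (Char.IsCharacter.comp_hom hf R.subtype)
  rw [hR, ← Finset.add_sum_erase _ _ (Finset.mem_univ (1 : R))] at hn
  have hne : ∀ u ∈ Finset.univ.erase (1 : R), ((u : R) : Q) ≠ 1 := fun u hu h1 =>
    Finset.ne_of_mem_erase hu (Subtype.ext h1)
  have hpk : ∀ u : R, (u : Q) ^ q ^ k = 1 := fun u => by
    rw [← hR]; exact congrArg Subtype.val (pow_card_eq_one' (x := u))
  by_cases hqD : q ∣ D
  · left
    rw [Finset.sum_eq_zero (fun u hu => by
      rcases hval k _ (hpk u) (hne u hu) with h | h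
      · exact h
      · have h1 := hcong (u : Q) 1 u.2 (by show f (u : Q) = _; rw [h]; norm_num)
        have h2 : (q : ℤ) ∣ 1 := by
          have := dvd_add h1 (Int.natCast_dvd_natCast.mpr hqD)
          rwa [sub_add_cancel] at this
        exact absurd (Int.natCast_dvd_natCast.mp h2) hq.not_dvd_one)] at hn
    simp only [map_one, add_zero, hf1] at hn
    exact ⟨n, by exact_mod_cast hn⟩
  · right
    rw [Finset.sum_congr rfl (g := fun _ => (1 : ℂ)) (fun u hu => by
      rcases hval k _ (hpk u) (hne u hu) with h | h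
      · have h1 := hcong (u : Q) 0 u.2 (by show f (u : Q) = _; rw [h]; norm_num)
        rw [zero_sub, dvd_neg] at h1
        exact absurd (Int.natCast_dvd_natCast.mp h1) hqD
      · exact h), Finset.sum_const, Finset.card_erase_of_mem (Finset.mem_univ _), Finset.card_univ,
      ← Nat.card_eq_fintype_card, hR, nsmul_one] at hn
    simp only [map_one, hf1] at hn
    have h1 : D + (q ^ k - 1) = q ^ k * n := by exact_mod_cast hn
    have hpos : 1 ≤ q ^ k := Nat.one_le_pow _ _ hq.pos
    have h3 : 1 ≤ n := Nat.one_le_iff_ne_zero.mpr fun h0 => by rw [h0, mul_zero] at h1; omega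
    refine ⟨n - 1, ?_⟩
    rw [Nat.mul_sub, mul_one]
    omega

variable {G : Type*} [Group G] [Finite G] {p : ℕ} [Fact p.Prime] {x : G} {L : Subgroup G} {e : ℕ}
  {χ : IrrCharacter G}
variable (h : Hyp p x L e χ)
include h

/-- The order of the central quotient, its divisor `e + 1`, and a core for it. -/
theorem card_dvd (hperf : commutator (G ⧸ Subgroup.center G) = ⊤) :
    Nat.card (G ⧸ Subgroup.center G) ∣ p * (e ^ 2 * (e ^ 2 - 1)) ∧ (e + 1) ∣ Nat.card (G ⧸ Subgroup.center G) ∧
      ∃ L' : Subgroup (G ⧸ Subgroup.center G), Core p (bar G x) L' e 2 := by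
  classical
  have he := h.he
  obtain ⟨L', hc, hrange, hvan⟩ := exists_core h hperf
  obtain ⟨M, hM⟩ := exists_isPModular (Fact.out : p.Prime)
  obtain ⟨d⟩ := exists_data hc hM
  have := Fintype.ofFinite (IrrCharacter (G ⧸ Subgroup.center G))
  obtain ⟨f, c₀, hfc, hf, -, -, hdvd, -⟩ := exists_quotient_block h hc hvan d
  refine ⟨?_, hdvd, L', hc⟩
  have hf1 : f 1 = ((e ^ 2 : ℕ) : ℂ) := by
    rw [← map_one (bar G), hf, ← charDegree_cast, h.hdeg, Complex.conj_natCast]
    push_cast
    ring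
  have h01 : ∀ a : G ⧸ Subgroup.center G, ¬ p ∣ orderOf a → a ≠ 1 → f a = 0 ∨ f a = 1 := by
    intro a ha ha1
    refine eq_zero_of_small hfc a fun k hk => ?_
    obtain ⟨g, hg⟩ := QuotientGroup.mk'_surjective (Subgroup.center G) (a ^ k)
    have hreg : ¬ p ∣ orderOf (bar G g) := by
      rw [show bar G g = a ^ k from hg, Nat.Coprime.orderOf_pow (hk.symm.of_dvd_left (orderOf_dvd_natCard a))]
      exact ha
    have hb := norm_bound h hc hrange hvan d (regular_lift h hreg)
    have hnc : g ∉ Subgroup.center G := fun hcen => by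
      have h1 : a ^ k = 1 := hg ▸ (bar_eq_one_iff g).mpr hcen
      exact ha1 (orderOf_eq_one_iff.mp (Nat.eq_one_of_dvd_coprimes hk (orderOf_dvd_of_pow_eq_one h1)
        (orderOf_dvd_natCard a)))
    have hle := hb.resolve_right hnc
    rw [show a ^ k = bar G g from hg.symm, hf, Complex.mul_conj']
    have h0 := norm_nonneg ((χ : G → ℂ) g)
    rw [← Complex.ofReal_pow, ← Complex.ofReal_one, ← Complex.ofReal_sub, ← Complex.ofReal_mul, Complex.norm_real,
      Real.norm_eq_abs, abs_lt]
    have h2 : ‖(χ : G → ℂ) g‖ ^ 2 ≤ 1 := pow_le_one₀ h0 hle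
    constructor <;> nlinarith
  refine (Nat.dvd_iff_prime_pow_dvd_dvd _ _).mpr fun q k hq hk => ?_
  by_cases hqp : q = p
  · subst hqp
    rcases Nat.lt_or_ge k 2 with hk2 | hk2
    · exact ((pow_dvd_pow q (show k ≤ 1 by omega)).trans (pow_one q).dvd).trans (Dvd.intro _ rfl)
    · exact absurd ((pow_dvd_pow q hk2).trans hk) (not_sq_bar h)
  haveI := Fact.mk hq
  obtain ⟨R, hR⟩ := Sylow.exists_subgroup_card_pow_prime (G := G ⧸ Subgroup.center G) q hk
  have he1 : 1 ≤ e ^ 2 := Nat.one_le_pow _ _ (by omega)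
  have hD := prime_pow_dvd hfc he1 hf1 hq (fun j g hg hg1 => h01 g (fun hdiv => hqp (by
    have h1 := hdiv.trans (orderOf_dvd_of_pow_eq_one hg)
    exact ((Nat.prime_dvd_prime_iff_eq h.hS.hp hq).mp (h.hS.hp.dvd_of_dvd_pow h1)).symm)) hg1) R hR
  rcases hD with h1 | h1
  · exact h1.trans (dvd_mul_of_dvd_right (Dvd.intro _ rfl) _)
  · exact h1.trans (dvd_mul_of_dvd_right (dvd_mul_left _ _) _)

/-- The recognition of the central quotient. -/
theorem psl_of_hyp (hperf : commutator (G ⧸ Subgroup.center G) = ⊤) :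
    Nonempty ((G ⧸ Subgroup.center G) ≃* Matrix.ProjectiveSpecialLinearGroup (Fin 2) (ZMod p)) := by
  classical
  have hp := h.hS.hp
  have hpe := h.hpe
  have he := h.he
  obtain ⟨hdvd, he1, L', hc⟩ := card_dvd h hperf
  have hcard := BrauerTuan.card_sylow_mul hc
  set N := Nat.card (Sylow p (G ⧸ Subgroup.center G))
  have hmod : N % p = 1 := by
    have h1 := card_sylow_modEq_one p (G ⧸ Subgroup.center G)
    rwa [Nat.ModEq, Nat.mod_eq_of_lt hp.one_lt] at h1
  have hN1 : N ∣ e * (e ^ 2 - 1) := by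
    rw [← hcard, show p * (e ^ 2 * (e ^ 2 - 1)) = e * (e ^ 2 - 1) * (e * p) by ring] at hdvd
    exact Nat.dvd_of_mul_dvd_mul_right (Nat.mul_pos (by omega) hp.pos) hdvd
  have hN2 : e + 1 ∣ N := by
    rw [← hcard] at he1
    refine Nat.Coprime.dvd_of_dvd_mul_right (Nat.Coprime.mul_right ?_ ?_) he1
    · rw [Nat.coprime_self_add_left]; exact Nat.coprime_one_left _
    · rw [hpe, show 2 * e + 1 = e + 1 + e by ring, Nat.coprime_self_add_right, Nat.coprime_self_add_left]
      exact Nat.coprime_one_left _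
  have hN : N = p + 1 := by
    rcases card_sylow_cases hp hpe he hmod hN1 hN2 with hN | ⟨rfl, hN⟩
    · exact hN
    · exfalso
      refine not_perfect_two_mul_odd (m := 4095) ?_ ⟨2047, rfl⟩ hperf
      rw [← hcard, hN, hpe]
  have hC : Subgroup.centralizer ({bar G x} : Set (G ⧸ Subgroup.center G)) = Subgroup.zpowers (bar G x) :=
    le_antisymm (fun g hg => BrauerTuan.centralizer_x hc (Subgroup.mem_centralizer_singleton_iff.mp hg).symm)
      (Subgroup.zpowers_le.mpr (Subgroup.mem_centralizer_singleton_iff.mpr rfl))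
  have := Fintype.ofFinite (G ⧸ Subgroup.center G)
  obtain ⟨L'', e', t', n, hctx⟩ := BrauerFewSylow.exists_ctx (p := p) hperf (orderOf_bar h) hC
    (show 2 * N < _ by rw [hN]; nlinarith)
  have hn1 : n = 1 := by
    have h1 := BrauerTuan.card_sylow_mul hctx.toCore
    rw [hctx.hcard, show Nat.card (Sylow p (G ⧸ Subgroup.center G)) = p + 1 from hN, mul_comm (p + 1)] at h1
    have h2 := Nat.eq_of_mul_eq_mul_left (Nat.mul_pos (e_pos hctx.toCore) hp.pos) h1
    have h3 : 1 * p = n * p := by omega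
    exact (Nat.eq_of_mul_eq_mul_right hp.pos h3).symm
  obtain ⟨F, _, _, hF, -, ⟨φ⟩⟩ := BrauerFewSylow.recognition_one hctx hn1 hperf
  exact ⟨φ.trans (Agent.Linear.pslMapEquiv (ZMod.ringEquivOfPrime F hp hF).symm)⟩

end Cfsg.Agent.HalfDegree
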