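/-
A faithful character of degree `(p - 1) / 2`: reduction to the working hypotheses
(namespace `Cfsg.Agent.HalfDegree`).

Main results: `isIrr_of_comp`, `centralizes_of_coprime`, `quotient_psl`.
-/
import Cfsg.Agent.Lib.HalfDegree.Count
import Cfsg.Agent.Lib.RealBlock.Central
import Cfsg.Agent.Lib.ClassIndex.PSolvable
import Cfsg.Agent.S4468
import Cfsg.Agent.S4503

set_option autoImplicit false
set_option linter.unusedSectionVars false
set_option linter.style.haveILetI false

open scoped ComplexConjugate Pointwise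

namespace Cfsg.Agent.HalfDegree

open Cfsg Cfsg.Agent.Blocks Cfsg.Agent.CyclicDefect Cfsg.Agent.BrauerFewSylow

variable {G : Type*} [Group G] [Finite G]

/-- A character with irreducible pullback is irreducible. -/
theorem isIrr_of_comp {H : Type*} [Group H] [Finite H] (f : H →* G) {θ : G → ℂ} (hθ : IsCharacter G θ)
    (hirr : IsIrrCharacter H (fun a => θ (f a))) : IsIrrCharacter G θ := by
  classical
  have := Fintype.ofFinite G
  have := Fintype.ofFinite H
  have := Fintype.ofFinite (IrrCharacter G)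
  obtain ⟨m, hm, -⟩ := Char.IsCharacter.decompose hθ
  let φ : IrrCharacter H := ⟨_, hirr⟩
  choose N hN using fun ψ : IrrCharacter G => Char.IsCharacter.classInner_nat
    (Char.IsCharacter.comp_hom (Char.IsIrrCharacter.isCharacter ψ.2) f) (Char.IsIrrCharacter.isCharacter φ.2)
  have hm' : (fun a => θ (f a)) = ∑ ψ : IrrCharacter G, (m ψ : ℂ) • fun a => (ψ : G → ℂ) (f a) := by
    funext a
    have := congrFun hm (f a)
    simpa [Finset.sum_apply] using this
  have h1 : ∑ ψ : IrrCharacter G, m ψ * N ψ = 1 := by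
    apply Nat.cast_injective (R := ℂ)
    push_cast
    rw [← Char.classInner_irr_self hirr]
    nth_rw 1 [hm']
    rw [Char.classInner_sum_left]
    exact Finset.sum_congr rfl fun ψ _ => by rw [Char.classInner_smul_left, ← hN]
  obtain ⟨ψ₀, -, h0⟩ := Finset.exists_ne_zero_of_sum_ne_zero (by rw [h1]; exact one_ne_zero)
  rw [← Finset.add_sum_erase _ _ (Finset.mem_univ ψ₀)] at h1
  have hmn : m ψ₀ * N ψ₀ = 1 := by have := Nat.one_le_iff_ne_zero.mpr h0; omega
  have hm1 : m ψ₀ = 1 := Nat.eq_one_of_mul_eq_one_right hmn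
  have hN1 : N ψ₀ = 1 := Nat.eq_one_of_mul_eq_one_left hmn
  have := Fintype.ofFinite (IrrCharacter H)
  obtain ⟨n, hn, -⟩ := Char.IsCharacter.decompose (Char.IsCharacter.comp_hom (Char.IsIrrCharacter.isCharacter ψ₀.2) f)
  have hnφ : n φ = 1 := by
    have h2 := hN ψ₀
    rw [hn, Char.classInner_sum_smul (fun χ => (n χ : ℂ)) Finset.univ φ (Finset.mem_univ _), hN1] at h2
    simpa using h2
  have hdeg : (ψ₀ : G → ℂ) 1 = θ 1 ∧ ∀ ψ, ψ ≠ ψ₀ → m ψ = 0 := by
    have e1 : θ 1 = ∑ ψ : IrrCharacter G, (m ψ * charDegree (ψ : G → ℂ) : ℕ) := by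
      rw [congrFun hm 1]
      simp [Finset.sum_apply, charDegree_cast]
    have e2 : (ψ₀ : G → ℂ) 1 = ∑ χ : IrrCharacter H, (n χ * charDegree (χ : H → ℂ) : ℕ) := by
      have := congrFun hn 1
      simp only [map_one] at this
      rw [this]
      simp [Finset.sum_apply, charDegree_cast]
    have e3 : (charDegree (φ : H → ℂ) : ℂ) = θ 1 := by
      rw [charDegree_cast]
      show θ (f 1) = _
      rw [map_one]
    have e4 := e1.symm.trans e3.symm
    have e5 : charDegree (ψ₀ : G → ℂ) = ∑ χ : IrrCharacter H, n χ * charDegree (χ : H → ℂ) :=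
      Nat.cast_injective (R := ℂ) ((charDegree_cast ψ₀).trans e2)
    rw [Nat.cast_inj, ← Finset.add_sum_erase _ _ (Finset.mem_univ ψ₀), hm1, one_mul] at e4
    have e6 : charDegree (φ : H → ℂ) ≤ charDegree (ψ₀ : G → ℂ) := by
      rw [e5, ← Finset.add_sum_erase _ _ (Finset.mem_univ φ), hnφ, one_mul]
      omega
    refine ⟨?_, fun ψ hψ => ?_⟩
    · rw [← e3, ← charDegree_cast, Nat.cast_inj]
      omega
    · have h2 := Finset.sum_eq_zero_iff.mp (show ∑ χ ∈ Finset.univ.erase ψ₀, m χ * charDegree (χ : G → ℂ) = 0 by omega)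
        ψ (Finset.mem_erase.mpr ⟨hψ, Finset.mem_univ _⟩)
      refine (Nat.mul_eq_zero.mp h2).resolve_right fun h3 => irr_one_ne_zero ψ ?_
      rw [← charDegree_cast, h3, Nat.cast_zero]
  rw [hm, Finset.sum_eq_single ψ₀ (fun ψ _ hne => by rw [hdeg.2 ψ hne, Nat.cast_zero, zero_smul])
    (fun h' => absurd (Finset.mem_univ _) h'), hm1, Nat.cast_one, one_smul]
  exact ψ₀.2

variable {p : ℕ} [Fact p.Prime]

/-- Two elements of order `p` generate conjugate subgroups. -/
theorem exists_conj_mem {x : G} {L : Subgroup G} (hS : Setting p x L) {g : G} (hg : orderOf g = p) :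
    ∃ c : G, c * g * c⁻¹ ∈ Subgroup.zpowers x := by
  obtain ⟨P, hP⟩ := (IsPGroup.of_card (n := 1) (by rw [Nat.card_zpowers, hg, pow_one]) :
    IsPGroup p (Subgroup.zpowers g)).exists_le_sylow
  have hfac : Nat.card (Subgroup.zpowers x) = p ^ (Nat.card G).factorization p := by
    rw [hS.card_zpowers_eq, hS.factorization_card, pow_one]
  obtain ⟨c, hc⟩ := MulAction.exists_smul_eq G P (Sylow.ofCard (Subgroup.zpowers x) hfac)
  refine ⟨c, ?_⟩
  rw [show Subgroup.zpowers x = (MulAut.conj c • (P : Subgroup G)) by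
    rw [← Sylow.coe_ofCard (Subgroup.zpowers x) hfac, ← hc]; rfl]
  exact Subgroup.smul_mem_pointwise_smul g (MulAut.conj c) _ (hP (Subgroup.mem_zpowers g))

/-- A normal subgroup of order prime to `p` commutes with the elements of order `p`. -/
theorem centralizes_of_coprime {θ : G → ℂ} (hθ : IsCharacter G θ) (hfaith : ∀ g : G, θ g = θ 1 → g = 1)
    {e : ℕ} (hdeg : charDegree θ = e) (hlt : e + 1 < p) (N : Subgroup G) [N.Normal] (hN : ¬ p ∣ Nat.card N)
    {g : G} (hg : orderOf g = p) {n : G} (hn : n ∈ N) : g * n = n * g := by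
  classical
  have hp : p.Prime := Fact.out
  set T := N ⊔ Subgroup.zpowers g
  have hnT : n ∈ T := le_sup_left (a := N) hn
  have hgT : g ∈ T := le_sup_right (b := Subgroup.zpowers g) (Subgroup.mem_zpowers g)
  set N' := N.subgroupOf T
  have hN' : Nat.card N' = Nat.card N := Nat.card_congr (Subgroup.subgroupOfEquivOfLe le_sup_left).toEquiv
  haveI : N'.Normal := inferInstanceAs (N.subgroupOf T).Normal
  have hq : IsPGroup p (T ⧸ N') := by
    intro q
    refine ⟨1, ?_⟩
    induction q using QuotientGroup.induction_on with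
    | H t =>
      obtain ⟨a, ha, b, hb, hab⟩ := Subgroup.mem_sup_of_normal_left.mp t.2
      obtain ⟨i, rfl⟩ := Subgroup.mem_zpowers_iff.mp hb
      have ht : (QuotientGroup.mk t : T ⧸ N') = QuotientGroup.mk ((⟨g, hgT⟩ : T) ^ i) := by
        refine QuotientGroup.eq.mpr (Subgroup.mem_subgroupOf.mpr ?_)
        show (t : G)⁻¹ * (((⟨g, hgT⟩ : T) ^ i : T) : G) ∈ N
        rw [← hab, SubgroupClass.coe_zpow, mul_inv_rev]
        exact ‹N.Normal›.conj_mem' _ (inv_mem ha) (g ^ i)
      rw [ht, pow_one, ← QuotientGroup.mk_pow, ← zpow_natCast, zpow_comm, zpow_natCast]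
      rw [show (⟨g, hgT⟩ : T) ^ p = 1 from Subtype.ext (by rw [SubmonoidClass.coe_pow]; rw [← hg]; exact pow_orderOf_eq_one g),
        one_zpow]
      rfl
  have hsolv : Cfsg.IsPSolvable p T := by
    refine ClassIndex.isPSolvable_of_ext N' (Or.inr ?_) ?_
    · rw [hN']; exact (hp.coprime_iff_not_dvd.mpr hN).symm
    · haveI := hq.isNilpotent
      exact ClassIndex.isPSolvable_of_isSolvable _ inferInstance
  have hθT := Char.IsCharacter.comp_hom hθ T.subtype
  have hdT : charDegree (fun t : T => θ (T.subtype t)) = e := by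
    rw [← hdeg]; simp [charDegree]
  obtain ⟨P, hP⟩ := (IsPGroup.of_card (n := 1) (by rw [Nat.card_zpowers, Subgroup.orderOf_mk, hg, pow_one]) :
    IsPGroup p (Subgroup.zpowers (⟨g, hgT⟩ : T))).exists_le_sylow
  by_cases hPn : (P : Subgroup T).Normal
  · have hdisj : Disjoint N' (P : Subgroup T) := by
      refine disjoint_iff.mpr (Subgroup.eq_bot_of_card_eq _ ?_)
      obtain ⟨k, hk⟩ := (P.isPGroup'.to_le (inf_le_right (a := N'))).exists_card_eq
      rcases Nat.eq_zero_or_pos k with h0 | h0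
      · rw [hk, h0, pow_zero]
      · exact absurd ((dvd_pow_self p h0.ne').trans (hk.symm.dvd.trans
          ((Subgroup.card_dvd_of_le (inf_le_left (b := (P : Subgroup T)))).trans hN'.dvd))) hN
    exact (congrArg Subtype.val (Subgroup.commute_of_normal_of_disjoint _ _ inferInstance hPn hdisj ⟨n, hnT⟩
      ⟨g, hgT⟩ (Subgroup.mem_subgroupOf.mpr hn) (hP (Subgroup.mem_zpowers _))).eq).symm
  · have := Cfsg.Agent.S4468.result _ hθT (fun t ht => Subtype.ext (hfaith _ (by simpa using ht))) e hdT p hp hsolv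
      hlt.le P hPn
    omega

set_option maxHeartbeats 1000000 in
/-- The central quotient of a group with a faithful character of degree `(p - 1) / 2`. -/
theorem quotient_psl (hdiv : p ∣ Nat.card G) (hsq : ¬ p ^ 2 ∣ Nat.card G)
    (hnn : ∀ H : Subgroup G, H.Normal → Nat.card H ≠ p) {θ : G → ℂ} (hθ : IsCharacter G θ)
    (hfaith : ∀ g : G, θ g = θ 1 → g = 1) {e : ℕ} (hdeg : charDegree θ = e) (hpe : p = 2 * e + 1) (he : 2 ≤ e) :
    Nonempty ((G ⧸ Subgroup.center G) ≃* Matrix.ProjectiveSpecialLinearGroup (Fin 2) (ZMod p)) := by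
  classical
  have hp : p.Prime := Fact.out
  have := Fintype.ofFinite G
  obtain ⟨x, hx⟩ := exists_prime_orderOf_dvd_card' p hdiv
  obtain ⟨L, hS⟩ := exists_setting hp hx hsq
  set S : Set G := {g : G | orderOf g = p}
  let H : Subgroup G := Subgroup.closure S
  have hHn : H.Normal := ⟨fun g hg c => by
    induction hg using Subgroup.closure_induction with
    | mem a ha => exact Subgroup.subset_closure (show orderOf (c * a * c⁻¹) = p by rw [SecondMain.orderOf_conj]; exact ha)
    | one => simp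
    | mul a b _ _ iha ihb => rw [show c * (a * b) * c⁻¹ = (c * a * c⁻¹) * (c * b * c⁻¹) by group]; exact mul_mem iha ihb
    | inv a _ iha => rw [← conj_inv]; exact inv_mem iha⟩
  let y : H := ⟨x, Subgroup.subset_closure hx⟩
  have hgen : Subgroup.closure {g : H | orderOf g = p} = ⊤ := by
    rw [← Subgroup.closure_closure_coe_preimage (k := S)]
    congr 1
    ext g
    simp [S]
    rfl
  obtain ⟨L0, hS0⟩ := exists_setting hp ((Subgroup.orderOf_mk x _).trans hx : orderOf y = p)
    (fun h => hsq (h.trans (Subgroup.card_subgroup_dvd_card H)))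
  obtain ⟨M, hM⟩ := CentralChar.exists_pModular p
  have := Fintype.ofFinite H
  have := Fintype.ofFinite (IrrCharacter H)
  have hnn' : ∀ g : G, orderOf g = p → ¬ (∀ a ∈ S, Commute a g) := by
    intro g hg hall
    refine hnn (Subgroup.zpowers g) ⟨fun a ha c => ?_⟩ (by rw [Nat.card_zpowers, hg])
    obtain ⟨L1, hS1⟩ := exists_setting hp hg hsq
    obtain ⟨i, rfl⟩ := Subgroup.mem_zpowers_iff.mp ha
    rw [← conj_zpow]
    refine Subgroup.zpow_mem _ (hS1.mem_zpowers_of_pow_eq_one ?_ ?_) i
    · refine Subgroup.centralizer_le_normalizer _ (Subgroup.mem_centralizer_iff.mpr ?_)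
      intro u hu
      obtain ⟨j, rfl⟩ := Subgroup.mem_zpowers_iff.mp hu
      exact ((hall (c * g * c⁻¹) (show orderOf _ = p by rw [SecondMain.orderOf_conj]; exact hg)).symm.zpow_left j).eq
    · rw [conj_pow, hS1.pow_eq_one, mul_one, mul_inv_cancel]
  -- the restriction is irreducible
  have hθH := Char.IsCharacter.comp_hom hθ H.subtype
  obtain ⟨m, hm, -⟩ := Char.IsCharacter.decompose hθH
  have hmdeg : e = ∑ ψ : IrrCharacter H, m ψ * charDegree (ψ : H → ℂ) := by
    have h1 := congrFun hm 1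
    simp only [Finset.sum_apply, Pi.smul_apply, smul_eq_mul, map_one, ← charDegree_cast] at h1
    apply Nat.cast_injective (R := ℂ)
    push_cast
    rw [← hdeg, RealBlock.charDegree_cast hθ, h1]
  have hle : ∀ φ : IrrCharacter H, m φ * charDegree (φ : H → ℂ) ≤ e := fun φ => hmdeg ▸
    Finset.single_le_sum (f := fun ψ => m ψ * charDegree (ψ : H → ℂ)) (fun _ _ => Nat.zero_le _)
      (Finset.mem_univ φ)
  obtain ⟨φ, hφ, hφn⟩ : ∃ φ : IrrCharacter H, m φ ≠ 0 ∧ ‖(φ : H → ℂ) y‖ ≠ (charDegree (φ : H → ℂ) : ℝ) := by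
    by_contra hcon
    push Not at hcon
    refine hnn' x hx fun a ha => ?_
    have h : (⟨a, Subgroup.subset_closure ha⟩ : H) * y * (⟨a, Subgroup.subset_closure ha⟩ : H)⁻¹ * y⁻¹ = 1 := by
      refine Subtype.ext (hfaith _ ?_)
      set c := (⟨a, Subgroup.subset_closure ha⟩ : H) * y * (⟨a, Subgroup.subset_closure ha⟩ : H)⁻¹ * y⁻¹
      have h' := (congrFun hm c).trans (Eq.trans ?_ (congrFun hm 1).symm)
      · simpa using h'
      simp only [Finset.sum_apply, Pi.smul_apply, smul_eq_mul]
      refine Finset.sum_congr rfl fun ψ _ => ?_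
      by_cases hψ : m ψ = 0
      · simp [hψ]
      · rw [S4503.apply_commutator ψ (hcon ψ hψ) _]
    have h' : a * x * a⁻¹ * x⁻¹ = 1 := congrArg Subtype.val h
    rw [mul_inv_eq_one, mul_inv_eq_iff_eq_mul] at h'
    exact h'
  have hφ1 : charDegree (φ : H → ℂ) ≤ e := (Nat.le_mul_of_pos_left _ (Nat.pos_of_ne_zero hφ)).trans (hle φ)
  obtain ⟨h2deg, h2idx⟩ := (norm_eq_or_half hS0 hM hgen φ (by omega)).resolve_left hφn
  have hφdeg : charDegree (φ : H → ℂ) = e := by omega
  have hidx : (K y L0).index = e := by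
    have h5 : 2 * (K y L0).index + 1 = p := h2idx
    omega
  have hφeq : (fun a : H => θ (H.subtype a)) = (φ : H → ℂ) := by
    have h1 := hmdeg
    rw [← Finset.add_sum_erase _ _ (Finset.mem_univ φ)] at h1
    have h2 := hle φ
    rw [hφdeg] at h1 h2
    have hm1 : m φ = 1 := le_antisymm (Nat.le_of_mul_le_mul_right (by rw [one_mul]; exact h2) (by omega))
      (Nat.pos_of_ne_zero hφ)
    rw [hm1, one_mul] at h1
    rw [hm, Finset.sum_eq_single φ (fun ψ _ hne => ?_) (fun h' => absurd (Finset.mem_univ _) h'), hm1, Nat.cast_one,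
      one_smul]
    have h3 := Finset.sum_eq_zero_iff.mp (show ∑ ψ ∈ Finset.univ.erase φ, m ψ * charDegree (ψ : H → ℂ) = 0 by omega)
      ψ (Finset.mem_erase.mpr ⟨hne, Finset.mem_univ _⟩)
    rw [(Nat.mul_eq_zero.mp h3).resolve_right fun h4 => irr_one_ne_zero ψ (by rw [← charDegree_cast, h4, Nat.cast_zero]),
      Nat.cast_zero, zero_smul]
  let χ : IrrCharacter G := ⟨θ, isIrr_of_comp H.subtype hθ (hφeq ▸ φ.2)⟩
  -- the action on `⟨x⟩`
  have hpw : ∀ i : ZMod p, ((pw y i : H) : G) = pw x i := fun i => SubmonoidClass.coe_pow y i.val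
  have hrange_le : (CyclicDefect.alpha hS0).range ≤ (CyclicDefect.alpha hS).range := by
    rintro u ⟨l0, rfl⟩
    have hl := congrArg Subtype.val (alphaVal_spec hS0 l0)
    rw [hpw] at hl
    have hconj : ((l0 : H) : G) * x * ((l0 : H) : G)⁻¹ = pw x (alphaVal hS0 l0) := hl
    have hmem : ((l0 : H) : G) ∈ Nr x := Subgroup.mem_normalizer_fintype fun a ha => by
      obtain ⟨i, rfl⟩ := hS.exists_pw ha
      rw [hS.conj_pw hconj]
      exact hS.pw_mem _
    obtain ⟨a, ha, l, hl', hal⟩ := hS.hgen _ hmem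
    obtain ⟨i, rfl⟩ := hS.exists_pw ha
    refine ⟨⟨l, hl'⟩, Units.ext (hS.pw_inj ?_)⟩
    show pw x (alphaVal hS ⟨l, hl'⟩) = pw x (alphaVal hS0 l0)
    rw [← hconj, hal, ← alphaVal_spec hS ⟨l, hl'⟩]
    show l * x * l⁻¹ = pw x i * l * x * (pw x i * l)⁻¹
    rw [show pw x i * l * x * (pw x i * l)⁻¹ = pw x i * (l * x * l⁻¹) * (pw x i)⁻¹ by group,
      show l * x * l⁻¹ = pw x (alphaVal hS ⟨l, hl'⟩) from alphaVal_spec hS ⟨l, hl'⟩,
      (show Commute (pw x i) (pw x (alphaVal hS ⟨l, hl'⟩)) from hS.commute_pw i ((Commute.refl x).pow_right _)).eq,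
      mul_inv_cancel_right]
  have hr0 : Nat.card (CyclicDefect.alpha hS0).range = e := by
    rw [← Subgroup.index_ker, CyclicDefect.ker_alpha hS0, hidx]
  have hrange : e ≤ Nat.card (CyclicDefect.alpha hS).range := hr0 ▸ Subgroup.card_le_of_le hrange_le
  -- normal subgroups inside `H`
  have hbig : ∀ N : Subgroup G, N.Normal → p ∣ Nat.card N → H ≤ N := by
    intro N hNn hpN
    refine (Subgroup.closure_le _).mpr fun a ha => ?_
    obtain ⟨b, hb⟩ := exists_prime_orderOf_dvd_card' p hpN
    have hb' : orderOf (b : G) = p := by rw [Subgroup.orderOf_coe, hb]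
    obtain ⟨c, hc⟩ := exists_conj_mem hS hb'
    obtain ⟨c', hc'⟩ := exists_conj_mem hS (show orderOf a = p from ha)
    have hxN : x ∈ N := by
      have h1 : Subgroup.zpowers (c * b * c⁻¹) = Subgroup.zpowers x := Subgroup.eq_of_le_of_card_ge
        (Subgroup.zpowers_le.mpr hc) (by
          rw [Nat.card_zpowers, Nat.card_zpowers, SecondMain.orderOf_conj, hb', hx])
      exact (Subgroup.zpowers_le.mpr (hNn.conj_mem _ b.2 c)) (h1 ▸ Subgroup.mem_zpowers x)
    have h2 : c' * a * c'⁻¹ ∈ N := Subgroup.zpowers_le.mpr hxN hc'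
    have h3 := hNn.conj_mem' _ h2 c'
    rwa [show c'⁻¹ * (c' * a * c'⁻¹) * c' = a by group] at h3
  have hcen : ∀ N : Subgroup G, N.Normal → ¬ p ∣ Nat.card N → ∀ n ∈ N, ∀ a ∈ H, a * n = n * a := by
    intro N hNn hpN n hn a ha
    have : H ≤ Subgroup.centralizer {n} := (Subgroup.closure_le _).mpr fun b hb =>
      Subgroup.mem_centralizer_singleton_iff.mpr
        (centralizes_of_coprime hθ hfaith hdeg (by omega) N hpN (show orderOf b = p from hb) hn)
    exact Subgroup.mem_centralizer_singleton_iff.mp (this ha)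
  -- `H` is perfect
  have hperfH : commutator H = ⊤ := by
    have hmap : (commutator H).map H.subtype = ⁅H, H⁆ := Subgroup.map_subtype_commutator H
    have hle' : ⁅H, H⁆ ≤ H := Subgroup.commutator_le_self H
    by_cases hpd : p ∣ Nat.card (⁅H, H⁆ : Subgroup G)
    · refine Subgroup.map_injective (f := H.subtype) Subtype.val_injective ?_
      show (commutator H).map H.subtype = (⊤ : Subgroup H).map H.subtype
      rw [hmap, ← MonoidHom.range_eq_map, Subgroup.range_subtype]
      exact le_antisymm hle' (hbig _ inferInstance hpd)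
    · exfalso
      refine hnn' x hx fun a ha => ?_
      have hc : a * x * a⁻¹ * x⁻¹ ∈ (⁅H, H⁆ : Subgroup G) :=
        Subgroup.commutator_mem_commutator (Subgroup.subset_closure ha) (Subgroup.subset_closure hx)
      set c := a * x * a⁻¹ * x⁻¹ with hcdef
      have hca : a * c = c * a := hcen _ inferInstance hpd c hc a (Subgroup.subset_closure ha)
      have hax : a * x * a⁻¹ = c * x := by rw [hcdef]; group
      have hiter : ∀ k : ℕ, a ^ k * x * (a ^ k)⁻¹ = c ^ k * x := by
        intro k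
        induction k with
        | zero => simp
        | succ k ih =>
          calc a ^ (k + 1) * x * (a ^ (k + 1))⁻¹ = a * (a ^ k * x * (a ^ k)⁻¹) * a⁻¹ := by
                rw [pow_succ' a k]; group
            _ = (a * c ^ k) * x * a⁻¹ := by rw [ih]; group
            _ = c ^ k * (a * x * a⁻¹) := by rw [(show Commute a (c ^ k) from (show Commute a c from hca).pow_right k).eq]; group
            _ = c ^ (k + 1) * x := by rw [hax, pow_succ c k]; group
      have h1 := hiter p
      rw [show a ^ p = 1 by rw [← (show orderOf a = p from ha)]; exact pow_orderOf_eq_one a, one_mul, inv_one, mul_one,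
        right_eq_mul] at h1
      have hc1 : c = 1 := by
        refine orderOf_eq_one_iff.mp (Nat.eq_one_of_dvd_coprimes (hp.coprime_iff_not_dvd.mpr hpd)
          (orderOf_dvd_of_pow_eq_one h1) ?_)
        have := orderOf_dvd_natCard (⟨c, hc⟩ : (⁅H, H⁆ : Subgroup G))
        rwa [Subgroup.orderOf_mk] at this
      rw [hc1, one_mul, mul_inv_eq_iff_eq_mul] at hax
      exact hax
  -- the centraliser of `H`
  have hCH : ∀ g : G, (∀ a ∈ H, a * g = g * a) → g ∈ Subgroup.center G := by
    intro g hg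
    have hcomm : ∀ (a : H) (b : Subgroup.zpowers g), Commute (H.subtype a) ((Subgroup.zpowers g).subtype b) := by
      intro a ⟨b, hb⟩
      obtain ⟨j, rfl⟩ := Subgroup.mem_zpowers_iff.mp hb
      exact (show Commute (a : G) g from hg a a.2).zpow_right j
    let π := MonoidHom.noncommCoprod H.subtype (Subgroup.zpowers g).subtype hcomm
    have hirr : IsIrrCharacter (H × Subgroup.zpowers g) (fun q => θ (π q)) := by
      refine isIrr_of_comp (MonoidHom.inl H (Subgroup.zpowers g)) (Char.IsCharacter.comp_hom hθ π) ?_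
      rw [show (fun a => θ (π (MonoidHom.inl H (Subgroup.zpowers g) a))) = (φ : H → ℂ) from by
        rw [← hφeq]; funext a; simp [π]]
      exact φ.2
    let φ' : IrrCharacter (H × Subgroup.zpowers g) := ⟨_, hirr⟩
    obtain ⟨w, hw, hw1⟩ := exists_central φ'
    have hz : ((1 : H), (⟨g, Subgroup.mem_zpowers g⟩ : Subgroup.zpowers g)) ∈ Subgroup.center _ := by
      rw [Subgroup.mem_center_iff]
      rintro ⟨a, b⟩
      refine Prod.ext (by simp) ?_
      obtain ⟨j, hj⟩ := Subgroup.mem_zpowers_iff.mp b.2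
      refine Subtype.ext ?_
      show (b : G) * g = g * (b : G)
      rw [← hj]
      exact ((Commute.refl g).zpow_left j).eq
    have h1 := hw ⟨_, hz⟩ 1
    simp only [φ', mul_one] at h1
    refine mem_center_of_norm_eq χ hfaith ?_
    show ‖θ g‖ = _
    rw [show θ g = w ⟨_, hz⟩ * θ 1 by simpa [π] using h1, norm_mul]
    have h2 := congrArg norm (hw1 ⟨_, hz⟩)
    rw [norm_mul, Complex.norm_conj, norm_one, ← pow_two] at h2
    rw [(pow_eq_one_iff_of_nonneg (norm_nonneg _) two_ne_zero).mp h2, one_mul,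
      show θ 1 = (charDegree (χ : G → ℂ) : ℂ) from (charDegree_cast χ).symm, Complex.norm_natCast]
  have hquasi : ∀ [Fintype G] (ψ : IrrCharacter G),
      classInner (fun g => (χ : G → ℂ) g * conj ((χ : G → ℂ) g)) (ψ : G → ℂ) ≠ 0 → ψ ≠ oneG G →
      Codegree.kerSub ψ ≤ Subgroup.center G := by
    intro _ ψ hψ hψ1
    by_contra hnot
    have hNn : (Codegree.kerSub ψ).Normal := ⟨fun a ha c => by
      show (ψ : G → ℂ) (c * a * c⁻¹) = (ψ : G → ℂ) 1
      rw [irr_class ψ a c]; exact ha⟩
    set N := Codegree.kerSub ψ with hNdef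
    have hHN : H ≤ N := by
      by_cases hpd : p ∣ Nat.card (N ⊓ H : Subgroup G)
      · exact (hbig _ inferInstance hpd).trans inf_le_left
      exfalso
      refine hnot fun n hn => hCH n fun a ha => ?_
      have hstep : ∀ b ∈ H, n * b * n⁻¹ * b⁻¹ ∈ Subgroup.center G := fun b hb => by
        refine hCH _ (hcen _ inferInstance hpd _ ?_)
        refine Subgroup.mem_inf.mpr ⟨?_, ?_⟩
        · rw [show n * b * n⁻¹ * b⁻¹ = n * (b * n⁻¹ * b⁻¹) by group]
          exact mul_mem hn (hNn.conj_mem _ (inv_mem hn) b)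
        · exact mul_mem (hHn.conj_mem _ hb n) (inv_mem hb)
      let δ : H →* Subgroup.center G :=
        { toFun := fun b => ⟨n * b * n⁻¹ * (b : G)⁻¹, hstep b b.2⟩
          map_one' := Subtype.ext (by simp)
          map_mul' := fun b b' => Subtype.ext (by
            show n * ((b : G) * b') * n⁻¹ * ((b : G) * b')⁻¹ = (n * b * n⁻¹ * (b : G)⁻¹) * (n * b' * n⁻¹ * (b' : G)⁻¹)
            have hc := Subgroup.mem_center_iff.mp (hstep b' b'.2) ((b : G)⁻¹)
            rw [mul_assoc (n * b * n⁻¹) (b : G)⁻¹, hc]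
            group) }
      letI : CommGroup (Subgroup.center G) :=
        { (inferInstance : Group (Subgroup.center G)) with
          mul_comm := fun u v => Subtype.ext (Subgroup.mem_center_iff.mp v.2 u) }
      have h1 : n * a * n⁻¹ * a⁻¹ = 1 := congrArg Subtype.val (MonoidHom.mem_ker.mp
        (Abelianization.commutator_subset_ker δ (hperfH ▸ Subgroup.mem_top (⟨a, ha⟩ : H))))
      rw [mul_inv_eq_one, mul_inv_eq_iff_eq_mul] at h1
      exact h1.symm
    have := Fintype.ofFinite (IrrCharacter G)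
    have hF := Char.IsCharacter.mul hθ (Char.IsCharacter.conj hθ)
    obtain ⟨k, hk, -⟩ := Char.IsCharacter.decompose hF
    let one : IrrCharacter H := ⟨1, Char.isIrrCharacter_one⟩
    choose R hR using fun ξ : IrrCharacter G => Char.IsCharacter.classInner_nat
      (Char.IsCharacter.comp_hom (Char.IsIrrCharacter.isCharacter ξ.2) H.subtype)
      (Char.IsIrrCharacter.isCharacter one.2)
    have hone : ∑ ξ : IrrCharacter G, k ξ * R ξ = 1 := by
      apply Nat.cast_injective (R := ℂ)
      push_cast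
      rw [← Char.classInner_irr_self φ.2]
      have e1 : (fun a : H => θ (H.subtype a) * conj (θ (H.subtype a))) =
          ∑ ξ : IrrCharacter G, (k ξ : ℂ) • fun a : H => (ξ : G → ℂ) (H.subtype a) := by
        funext a
        have := congrFun hk (H.subtype a)
        simpa [Finset.sum_apply] using this
      have e2 : classInner (φ : H → ℂ) (φ : H → ℂ) =
          classInner (fun a : H => θ (H.subtype a) * conj (θ (H.subtype a))) (one : H → ℂ) := by
        rw [← hφeq]
        simp [classInner, one]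
      rw [e2, e1, Char.classInner_sum_left]
      exact Finset.sum_congr rfl fun ξ _ => by rw [Char.classInner_smul_left, ← hR]
    have hval : ∀ ξ : IrrCharacter G, classInner (fun g => (χ : G → ℂ) g * conj ((χ : G → ℂ) g)) (ξ : G → ℂ) = k ξ := by
      intro ξ
      rw [show (fun g => (χ : G → ℂ) g * conj ((χ : G → ℂ) g)) = ∑ ζ : IrrCharacter G, (k ζ : ℂ) • (ζ : G → ℂ) from hk,
        Char.classInner_sum_smul (fun ζ => (k ζ : ℂ))]
      simp
    have hk1 : k (oneG G) = 1 := by
      apply Nat.cast_injective (R := ℂ)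
      rw [← hval, Nat.cast_one, ← Char.classInner_irr_self χ.2]
      simp [classInner]
    have hkψ : 1 ≤ k ψ := Nat.one_le_iff_ne_zero.mpr fun h0 => hψ (by rw [hval, h0, Nat.cast_zero])
    have hone' : ∀ ξ : IrrCharacter G, (∀ a ∈ H, (ξ : G → ℂ) a = (ξ : G → ℂ) 1) → 1 ≤ R ξ := fun ξ hξ => by
      refine Nat.one_le_iff_ne_zero.mpr fun h0 => irr_one_ne_zero ξ ?_
      have := hR ξ
      rw [h0, Nat.cast_zero, show (fun a : H => (ξ : G → ℂ) (H.subtype a)) = (ξ : G → ℂ) 1 • (one : H → ℂ) from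
        funext fun a => by simpa [one] using hξ a a.2, Char.classInner_smul_left, Char.classInner_irr_self one.2,
        mul_one] at this
      exact this
    have hR1 := hone' (oneG G) fun a _ => by simp
    have hRψ := hone' ψ fun a ha => hHN ha
    rw [← Finset.add_sum_erase _ _ (Finset.mem_univ (oneG G)), hk1, one_mul,
      ← Finset.add_sum_erase _ _ (Finset.mem_erase.mpr ⟨hψ1, Finset.mem_univ ψ⟩)] at hone
    have : 1 ≤ k ψ * R ψ := Nat.one_le_iff_ne_zero.mpr (Nat.mul_ne_zero (by omega) (by omega))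
    omega
  have h : Hyp p x L e χ := ⟨hS, hpe, he, hdeg, hfaith, hrange, hquasi⟩
  refine psl_of_hyp h ?_
  -- the quotient is perfect
  have hsur : H.map (bar G) = ⊤ := by
    refine top_le_iff.mp fun q _ => ?_
    obtain ⟨g, rfl⟩ := QuotientGroup.mk'_surjective _ q
    have hxg : orderOf (g * x * g⁻¹) = p := by rw [SecondMain.orderOf_conj]; exact hx
    obtain ⟨c, hc⟩ := exists_conj_mem hS0 (show orderOf (⟨_, Subgroup.subset_closure hxg⟩ : H) = p by
      rw [Subgroup.orderOf_mk]; exact hxg)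
    obtain ⟨i, hi⟩ := hS0.exists_pw hc
    have hconj : ((c : G) * g) * x * ((c : G) * g)⁻¹ = pw x i := by
      rw [← hpw, ← hi]
      show _ = (c : G) * (g * x * g⁻¹) * (c : G)⁻¹
      group
    have hu : i ≠ 0 := by
      intro h0
      rw [h0, hS.pw_zero, mul_inv_eq_one, mul_eq_left] at hconj
      exact hp.one_lt.ne' (hx.symm.trans (orderOf_eq_one_iff.mpr hconj))
    have hmem : Units.mk0 i hu ∈ Sq h := alpha_mem_of_conj h hconj
    rw [show Sq h = (CyclicDefect.alpha hS0).range from (Subgroup.eq_of_le_of_card_ge hrange_le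
      (by rw [hr0]; exact (card_Sq h).le)).symm] at hmem
    obtain ⟨l0, hl0⟩ := hmem
    have hl : ((l0 : H) : G) * x * ((l0 : H) : G)⁻¹ = pw x i := by
      rw [← hpw,
        show i = alphaVal hS0 l0 from (congrArg Units.val hl0).symm, ← alphaVal_spec hS0 l0]
      rfl
    set d := ((l0 : H) : G)⁻¹ * ((c : G) * g)
    have hd : Commute x d := by
      have h1 : ((l0 : H) : G) * x * ((l0 : H) : G)⁻¹ = ((c : G) * g) * x * ((c : G) * g)⁻¹ := hl.trans hconj.symm
      show x * d = d * x
      calc x * d = ((l0 : H) : G)⁻¹ * (((l0 : H) : G) * x * ((l0 : H) : G)⁻¹) * ((c : G) * g) := by simp only [d]; group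
        _ = d * x := by rw [h1]; simp only [d]; group
    obtain ⟨j, z, hz, hdz⟩ := commute_decomp h hd
    refine ⟨(c : G)⁻¹ * ((l0 : H) : G) * pw x j, ?_, ?_⟩
    · exact mul_mem (mul_mem (inv_mem c.2) (SetLike.coe_mem (l0 : H))) (hpw j ▸ SetLike.coe_mem _)
    · rw [show g = (c : G)⁻¹ * ((l0 : H) : G) * pw x j * z by
        rw [mul_assoc _ (pw x j) z, ← hdz]; simp only [d]; group]
      rw [map_mul _ _ z, (bar_eq_one_iff z).mpr hz, mul_one]
  refine top_le_iff.mp ?_
  rw [commutator_def, ← hsur, ← Subgroup.map_commutator]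
  refine Subgroup.map_mono ?_
  rw [← Subgroup.map_subtype_commutator, hperfH, ← MonoidHom.range_eq_map, Subgroup.range_subtype]

end Cfsg.Agent.HalfDegree
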